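import Mathlib
import Cfsg.Agent.Ch.Deg12D
import Cfsg.Agent.Ch.DegKernel
import Cfsg.Agent.Deg.Ito2
import Cfsg.Agent.Deg.NdA
import Cfsg.Agent.Deg.PalB
import Cfsg.Agent.GT.Conj
import Cfsg.Agent.GT.PLength
import Cfsg.Agent.GT.TransferFrobenius

/-!
# Solvable groups with four character degrees: tools from character theory
-/

set_option autoImplicit false

namespace Cfsg.Agent.Gar

open Cfsg Cfsg.Agent.Ch Cfsg.Agent.Deg Subgroup

attribute [local instance] Fintype.ofFinite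

variable {G : Type*} [Group G] [Finite G]

/-- The exponent of `p` in the degree. -/
noncomputable abbrev vp (p : ℕ) (χ : G → ℂ) : ℕ := (charDegree χ).factorization p

/-- The stabiliser of a linear character of a normal subgroup. -/
abbrev St {N : Subgroup G} [N.Normal] (f : N →* ℂˣ) : Subgroup G := inertia N fun n => (f n : ℂ)

/-- `χ` lies over `θ`. -/
abbrev Ov {H : Subgroup G} (χ : G → ℂ) (θ : H → ℂ) : Prop := classInner (fun n : H => χ n) θ ≠ 0

theorem le_St {N : Subgroup G} [N.Normal] (f : N →* ℂˣ) : N ≤ St f :=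
  le_inertia (isCharacter_monoidHom_units f).isClassFunction

theorem St_apply {N : Subgroup G} [hN : N.Normal] {f : N →* ℂˣ} {g : G} (hg : g ∈ St f) (n : N) :
    f ⟨g * n * g⁻¹, hN.conj_mem n n.2 g⟩ = f n := DFunLike.congr_fun (mem_inertia_lin.1 hg) n

theorem exists_const_le {χ : G → ℂ} (hχ : IsCharacter G χ) (h0 : charDegree χ ≠ 0) {p : ℕ}
    (hp : p.Prime) : ∃ φ, IsIrrCharacter G φ ∧ classInner χ φ ≠ 0 ∧ vp p φ ≤ vp p χ := by
  by_contra H
  push Not at H
  have := dvd_charDegree_of_forall_constituent hχ (d := p ^ (vp p χ + 1)) fun φ hφ h =>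
    (hp.pow_dvd_iff_le_factorization hφ.charDegree_pos.ne').2 (H φ hφ h)
  exact absurd ((hp.pow_dvd_iff_le_factorization h0).1 this) (by simp)

theorem le_ker_of_under {H A : Subgroup G} [A.Normal] (hAH : A ≤ H) {χ : G → ℂ}
    (hχ : IsIrrCharacter G χ) {ψ : H → ℂ} (hψ : IsIrrCharacter H ψ) (h : Ov χ ψ)
    (hk : A.subgroupOf H ≤ charKer ψ) : A ≤ charKer χ := by
  refine hχ.le_charKer_of_classInner_one A
    (classInner_res_ne_zero_trans hAH hχ.isCharacter hψ IsCharacter.one h ?_)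
  rw [← classInner_res_subgroupOf hAH ψ fun _ => 1, classInner_restrict_one_of_le_charKer _ hk]
  exact hψ.apply_one_ne_zero

theorem ker_under {H A : Subgroup G} {χ : G → ℂ} (hχ : IsIrrCharacter G χ) {ψ : H → ℂ}
    (hψ : IsIrrCharacter H ψ) (h : Ov χ ψ) (hk : A ≤ charKer χ) : A.subgroupOf H ≤ charKer ψ :=
  fun _ hx => mem_charKer_of_over hχ.isCharacter hψ h (hk hx)

theorem deg_ne_one {χ : G → ℂ} (hχ : IsIrrCharacter G χ) {A : Subgroup G} (hA : A ≤ commutator G)
    (h : ¬ A ≤ charKer χ) : charDegree χ ≠ 1 :=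
  fun h1 => h (hA.trans ((charDegree_eq_one_iff_commutator_le hχ).1 h1))

/-- A version of Taketa's argument for the `p`-parts of the degrees. -/
theorem t1 {p : ℕ} (hp : p.Prime) {N : Subgroup G} [N.Normal] (hN : IsPGroup p N) {χ : G → ℂ}
    (hχ : IsIrrCharacter G χ) (h : ¬ ⁅N, N⁆ ≤ charKer χ) :
    ∃ ξ, IsIrrCharacter G ξ ∧ ¬ N ≤ charKer ξ ∧ vp p ξ < vp p χ := by
  have := Fact.mk hp
  obtain ⟨S⟩ : Nonempty (Sylow p G) := inferInstance
  have hNS : N ≤ S := (GT.le_pCore hN).trans (GT.pCore_le_sylow S)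
  have h0 : charDegree (fun x : (S : Subgroup G) => χ x) = charDegree χ := charDegree_congr rfl
  obtain ⟨ψ, hψ, h1, h2⟩ := exists_const_le (hχ.isCharacter.restrict S)
    (h0.symm ▸ hχ.charDegree_pos.ne') hp
  have := S.isPGroup'.isNilpotent
  obtain ⟨η, hη, h3, h4⟩ : ∃ η, IsIrrCharacter S η ∧ charDegree η < charDegree ψ ∧
      ¬ N.subgroupOf S ≤ charKer η := by
    by_contra H
    push Not at H
    refine h (le_ker_of_under ((commutator_le_left _ _).trans hNS) hχ hψ h1 ?_)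
    rw [← GT.commutator_subgroupOf hNS hNS]
    exact commutator_le_charKer_of_isMonomial hψ (isMonomial_of_isNilpotent hψ) _ H
  have h5 := charDegree_indFun (S : Subgroup G) hη.isCharacter
  obtain ⟨ξ, hξ, h6, h7⟩ := exists_const_le (isCharacter_indFun _ hη.isCharacter)
    (h5.symm ▸ mul_ne_zero index_ne_zero_of_finite hη.charDegree_pos.ne') hp
  rw [classInner_indFun_eq_res _ hη.isCharacter hξ.isCharacter] at h6
  refine ⟨ξ, hξ, fun hk => h4 (ker_under hξ hη h6 hk), h7.trans_lt ?_⟩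
  obtain ⟨i, hi⟩ := exists_charDegree_eq_pow S.isPGroup' hη
  obtain ⟨j, hj⟩ := exists_charDegree_eq_pow S.isPGroup' hψ
  rw [hi, hj, Nat.pow_lt_pow_iff_right hp.one_lt] at h3
  simp only [vp, h0, hj, hp.factorization_pow, Finsupp.single_eq_same] at h2
  simp only [vp, h5, hi]
  rw [Nat.factorization_mul index_ne_zero_of_finite (pow_ne_zero _ hp.ne_zero), Finsupp.add_apply,
    Nat.factorization_eq_zero_of_not_dvd S.not_dvd_index, hp.factorization_pow,
    Finsupp.single_eq_same]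
  omega

/-- A constituent of a permutation character. -/
theorem star {U R A : Subgroup G} [A.Normal] (hA : A ≤ U) (hR : ¬ R ≤ U) :
    ∃ ξ, IsIrrCharacter G ξ ∧ A ≤ charKer ξ ∧ ¬ R ≤ charKer ξ ∧ charDegree ξ < U.index := by
  have hπ := isCharacter_indFun U (IsCharacter.one (G := U))
  obtain ⟨φ, hφ, hne, h1⟩ : ∃ φ, IsIrrCharacter G φ ∧ classInner (indFun U fun _ => 1) φ ≠ 0 ∧
      ¬ R ≤ charKer φ := by
    by_contra H
    push Not at H
    exact hR (le_trans (fun g hg => hπ.mem_charKer_iff_forall_constituent.2 fun φ hφ hne =>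
      H φ hφ hne hg) (charKer_indFun_one_le U))
  refine ⟨φ, hφ, fun a ha => hπ.charKer_le_of_constituent hφ hne (hπ.mem_charKer.2
    (indFun_apply_eq_of_normal hA (fun _ _ => rfl) ha)), h1, ?_⟩
  have h2 : classInner (indFun U fun _ => (1 : ℂ)) (fun _ => 1) ≠ 0 := by
    rw [classInner_indFun_left U _ (IsClassFunction.const 1), classInner_one_one]
    exact one_ne_zero
  have h3 := hπ.sub_irr IsIrrCharacter.one h2
  have h4 := h3.charDegree_irr_le hφ (by
    rwa [classInner_sub_left, IsIrrCharacter.one.classInner_eq_zero hφ (by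
      rintro rfl; exact h1 fun _ _ _ => rfl), sub_zero])
  have h5 := h3.charDegree_add IsCharacter.one
  rw [sub_add_cancel, charDegree_indFun U IsCharacter.one, charDegree_one, charDegree_one] at h5
  omega

theorem exists_regular {B Λ : Type*} [Group B] [Finite B] [CommGroup Λ]
    (hB : ∀ a b : B, a * b = b * a) (c : B → Λ →* Λ)
    (hc : ∀ g h f, c (g * h) f = c h (c g f)) (h1 : ∀ f, c 1 f = f) {n : ℕ}
    (hn : ∀ f : Λ, f ^ n = 1) (hcop : n.Coprime (Nat.card B)) :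
    ∃ f, ∀ b, c b f = f → ∀ w, c b w = w := by
  let S : Λ → Subgroup B := fun f =>
    { carrier := {b | c b f = f}
      one_mem' := h1 f
      mul_mem' := fun {a b} ha hb => by
        show c (a * b) f = f
        rw [hc, ha, hb]
      inv_mem' := fun {a} ha => by
        show c a⁻¹ f = f
        conv_lhs => rw [← ha]
        rw [← hc, mul_inv_cancel, h1] }
  have hS : ∀ {f b}, b ∈ S f ↔ c b f = f := Iff.rfl
  obtain ⟨_, ⟨a, rfl⟩, hmin⟩ :=
    (wellFounded_lt (α := Subgroup B)).has_min (Set.range S) ⟨_, 1, rfl⟩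
  refine ⟨a, fun d hd b => ?_⟩
  by_contra hb
  let N : Λ →* Λ := ∏ e : S a, c e
  have hN : ∀ x, N x = ∏ e : S a, c e x := fun x => MonoidHom.finsetProd_apply _ _ _
  have hNc : ∀ s x, N (c s x) = c s (N x) := fun s x => by
    rw [hN, hN, map_prod]
    exact Finset.prod_congr rfl fun e _ => by rw [← hc, ← hc, hB]
  have hNfix : ∀ e ∈ S a, ∀ x, c e (N x) = N x := fun e he x => by
    rw [hN, map_prod]
    exact Fintype.prod_equiv (Equiv.mulRight (⟨e, he⟩ : S a)) _ _ fun y => by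
      rw [← hc]; rfl
  have hNN : ∀ x, (∀ e ∈ S a, c e x = x) → N x = x ^ Nat.card (S a) := fun x hx => by
    rw [hN, Finset.prod_congr rfl fun (e : S a) _ => hx e e.2, Finset.prod_const, Finset.card_univ,
      Nat.card_eq_fintype_card]
  have hinj : ∀ x y : Λ, x ^ Nat.card (S a) = y ^ Nat.card (S a) → x = y := fun x y h => by
    have h2 : (x * y⁻¹) ^ Nat.card (S a) = 1 := by rw [mul_pow, inv_pow, h, mul_inv_cancel]
    have h3 := pow_gcd_eq_one.2 ⟨hn _, h2⟩
    rwa [hcop.coprime_dvd_right (card_subgroup_dvd_card _), pow_one, mul_inv_eq_one] at h3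
  have hb' : N (b ^ Nat.card (S a) * (N b)⁻¹) = 1 := by
    rw [map_mul, map_inv, map_pow, hNN (N b) fun e he => hNfix e he b, mul_inv_cancel]
  refine hmin _ ⟨a * (b ^ Nat.card (S a) * (N b)⁻¹), rfl⟩ (lt_of_le_of_ne (fun s hs => ?_) fun h => ?_)
  · have h2 := congrArg N (hS.1 hs)
    rw [hNc, map_mul N, hb', mul_one, hNN a fun e he => he, map_pow] at h2
    exact hinj _ _ h2
  · have h2 : d ∈ S (a * (b ^ Nat.card (S a) * (N b)⁻¹)) := h.ge hd
    rw [hS, map_mul, hd, mul_right_inj, map_mul, map_inv, hNfix d hd, mul_left_inj, map_pow] at h2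
    exact hb (hinj _ _ h2)

theorem exists_reg (N : Subgroup G) [N.Normal] {R : Subgroup G}
    (hR : ∀ a ∈ R, ∀ b ∈ R, a * b = b * a) (hc : (Nat.card N).Coprime (Nat.card R)) :
    ∃ f : N →* ℂˣ, ∀ g : N →* ℂˣ, R ⊓ St f ≤ St g := by
  obtain ⟨f, hf⟩ := exists_regular (B := R) (Λ := N →* ℂˣ)
    (fun a b => Subtype.ext (hR a a.2 b b.2)) (fun b => linConj (b : G))
    (fun g h f => linConj_mul _ _ f) (fun f => linConj_one f) hom_pow_card_eq_one hc
  exact ⟨f, fun g x hx => mem_inertia_lin.2 (hf ⟨x, hx.1⟩ (mem_inertia_lin.1 hx.2) g)⟩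

section Ext

variable {N : Subgroup G} [hN : N.Normal] {f : N →* ℂˣ}

/-- `f` extends to its stabiliser. -/
def Ex (f : N →* ℂˣ) : Prop := ∃ η : St f →* ℂˣ, ∀ (n : N) hn, η ⟨n, hn⟩ = f n

theorem Ex.deg (h : Ex f) {β : St f → ℂ} (hβ : IsIrrCharacter _ β)
    (hk : N.subgroupOf (St f) ≤ charKer β) : ∃ χ, IsIrrCharacter G χ ∧
      Ov χ (fun n => (f n : ℂ)) ∧ charDegree χ = (St f).index * charDegree β := by
  obtain ⟨η, hη⟩ := h
  obtain ⟨χ, h1, h2, h3⟩ := deg12_exists_of_extends (isIrrCharacter_monoidHom_units f) rfl (le_St f)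
    (isCharacter_monoidHom_units η) (fun n => congrArg Units.val (hη n _)) hβ hk
  exact ⟨χ, h1, h2, by rw [h3, charDegree_linear, mul_one]⟩

theorem Ex.deg_one (h : Ex f) : ∃ χ, IsIrrCharacter G χ ∧
    Ov χ (fun n => (f n : ℂ)) ∧ charDegree χ = (St f).index := by
  simpa using h.deg IsIrrCharacter.one fun _ _ _ => rfl

theorem Ex.lt (h : Ex f) {V : Subgroup G} [hV : V.Normal] (hNV : ¬ V ≤ N) (hle : V ⊓ St f ≤ N)
    {χ : G → ℂ} (hχ : IsIrrCharacter G χ) (hk : N ≤ charKer χ) :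
    ∃ ψ, IsIrrCharacter G ψ ∧ Ov ψ (fun n => (f n : ℂ)) ∧ charDegree χ < charDegree ψ := by
  classical
  obtain ⟨β, hβ, h1⟩ := exists_irr_under (St f) hχ
  obtain ⟨ψ, hψ, h2, h3⟩ := h.deg hβ (ker_under hχ hβ (by convert h1) hk)
  refine ⟨ψ, hψ, h2, lt_of_le_of_ne (h3 ▸ Nd.deg_le_of_under hχ hβ h1) fun h4 => ?_⟩
  have hi := isCharacter_indFun (St f) hβ.isCharacter
  have h5 : indFun (St f) β = χ := hi.eq_irr_of_apply_one hχ
    (by rwa [classInner_indFun_eq_res _ hβ.isCharacter hχ.isCharacter]) (by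
      rw [← hi.coe_charDegree, ← hχ.coe_charDegree, charDegree_indFun _ hβ.isCharacter, h4, h3])
  have h6 : ∀ v ∈ V, v ∉ N → χ v = 0 := fun v hv hv' => by
    rw [← h5]
    exact indFun_eq_zero_of_forall_not_mem _ _ fun x hx => hv' (by
      simpa [mul_assoc] using hN.conj_mem _ (hle ⟨hV.conj_mem _ hv x, hx⟩) x⁻¹)
  by_cases h7 : V ≤ charKer χ
  · obtain ⟨v, hv, hv'⟩ := SetLike.not_le_iff_exists.1 hNV
    exact hχ.apply_one_ne_zero ((apply_eq_of_mem_charKer (h7 hv)).symm.trans (h6 v hv hv'))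
  have h8 := hχ.sum_normal_eq_zero V h7 1
  rw [Finset.sum_congr rfl (g := fun v : V => if (v : G) ∈ N then χ 1 else 0) fun v _ => by
    rw [mul_one]
    split_ifs with h
    exacts [apply_eq_of_mem_charKer (hk h), h6 v v.2 h], ← Finset.sum_filter, Finset.sum_const,
    nsmul_eq_mul, mul_eq_zero, Nat.cast_eq_zero] at h8
  exact h8.elim (Finset.card_ne_zero_of_mem (a := 1) (by simp)) hχ.apply_one_ne_zero

theorem ex_of_sup {H : Subgroup G} (h : N ⊔ H = ⊤) (hf : ∀ n : N, (n : G) ∈ H → f n = 1) :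
    Ex f := by
  have h1 : ∀ g : G, ∃ n : N, (n : G)⁻¹ * g ∈ H := fun g => by
    obtain ⟨n, hn, x, hx, rfl⟩ := mem_sup_of_normal_left.1 (h.ge (mem_top g))
    exact ⟨⟨n, hn⟩, by simpa using hx⟩
  choose w hw using h1
  have key : ∀ g (n : N), (n : G)⁻¹ * g ∈ H → f (w g) = f n := fun g n hn => by
    rw [eq_comm, ← inv_mul_eq_one, ← map_inv, ← map_mul]
    exact hf _ (by simpa [mul_assoc] using mul_mem hn (inv_mem (hw g)))
  refine ⟨MonoidHom.mk' (fun t => f (w t)) fun a b => ?_, fun n _ => key _ n (by simp)⟩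
  rw [← St_apply a.2 (w b), mul_comm (f _), ← map_mul]
  exact key _ _ (by simpa [mul_assoc] using mul_mem (hw a) (hw b))

theorem ex_of_coprime (h : (Nat.card N).Coprime N.index) (f : N →* ℂˣ) : Ex f := by
  obtain ⟨η, hη, he⟩ := deg12_extends_of_coprime h (isIrrCharacter_monoidHom_units f) le_rfl (le_St f)
  obtain ⟨μ, rfl⟩ := hη.isCharacter.exists_monoidHom_of_apply_one ((he 1).trans (by simp))
  exact ⟨μ, fun n _ => Units.ext (he n)⟩

end Ext

omit [Finite G] in
theorem exists_lin {X K : Subgroup G} [Finite X] (h : ⁅X, X⁆ ≤ K) {x : X} (hx : (x : G) ∉ K) :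
    ∃ f : X →* ℂˣ, (∀ y : X, (y : G) ∈ K → f y = 1) ∧ f x ≠ 1 := by
  have : (K.subgroupOf X).Normal := .of_commutator_le _ (commutator_le_subgroupOf h)
  obtain ⟨f, hf⟩ := exists_monoidHom_units_ne_one_of_comm (G := X ⧸ K.subgroupOf X)
    (Subgroup.Normal.quotient_commutative_iff_commutator_le.2
      (commutator_le_subgroupOf h)).is_comm.comm
    (g := (x : X ⧸ K.subgroupOf X)) (mt (QuotientGroup.eq_one_iff x).1 hx)
  exact ⟨f.comp (QuotientGroup.mk' _), fun y hy => by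
    simp [(QuotientGroup.eq_one_iff (N := K.subgroupOf X) y).2 hy], hf⟩

omit [Finite G] in
theorem lin_comm {X : Subgroup G} (f : X →* ℂˣ) {x : X} (hx : (x : G) ∈ ⁅X, X⁆) : f x = 1 := by
  rw [← map_subtype_commutator] at hx
  obtain ⟨y, hy, e⟩ := hx
  rw [← show y = x from Subtype.ext e]
  exact Abelianization.commutator_subset_ker f hy

/-- A nontrivial linear character fixed by a Sylow subgroup. -/
theorem exists_fixed {p : ℕ} (hp : p.Prime) {W : Subgroup G} [hW : W.Normal] (h : IsPGroup p W)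
    (h1 : W ≠ ⊥) : ∃ f : W →* ℂˣ, f ≠ 1 ∧ ¬ p ∣ (St f).index := by
  have := Fact.mk hp
  obtain ⟨S⟩ : Nonempty (Sylow p G) := inferInstance
  have hWS : W ≤ S := (GT.le_pCore h).trans (GT.pCore_le_sylow S)
  obtain ⟨w, hw, hw'⟩ := SetLike.not_le_iff_exists.1
    (mt (GT.Tr.eq_bot_of_le_commutator S.isPGroup'.isNilpotent hWS) h1)
  obtain ⟨f, h2, h3⟩ := exists_lin (x := ⟨w, hw⟩) (commutator_mono le_rfl hWS) hw'
  refine ⟨f, fun e => h3 (e ▸ rfl), fun h4 => S.not_dvd_index (h4.trans (index_dvd_of_le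
    fun s hs => mem_inertia_lin.2 (MonoidHom.ext fun n => ?_)))⟩
  rw [linConj_apply, ← mul_inv_eq_one, ← map_inv, ← map_mul]
  refine h2 _ ?_
  rw [commutator_comm]
  exact commutator_mem_commutator hs n.2

end Cfsg.Agent.Gar
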