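import Mathlib
import Cfsg.Agent.Gar.A
import Cfsg.Agent.Deg.NdC

/-!
# Solvable groups with four character degrees: sections and extensions
-/

set_option autoImplicit false

namespace Cfsg.Agent.Gar

open Cfsg Cfsg.Agent.Ch Cfsg.Agent.Deg Subgroup
open scoped commutatorElement

attribute [local instance] Fintype.ofFinite

variable {G : Type*} [Group G] [Finite G]

theorem three (K : Subgroup G) [K.Normal] {m n : ℕ} (h : ∀ χ, IsIrrCharacter G χ → K ≤ charKer χ →
    charDegree χ = 1 ∨ charDegree χ = m ∨ charDegree χ = n) : derivedSeries G 3 ≤ K := by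
  have h1 := deg12_three (G ⧸ K) m n fun χ hχ => h _ hχ.comp_mk (le_charKer_comp_mk _ _)
  rwa [← map_derivedSeries_eq (QuotientGroup.mk'_surjective K), Subgroup.map_eq_bot_iff,
    QuotientGroup.ker_mk'] at h1

/-- Thompson's theorem modulo a normal subgroup. -/
theorem thom (K : Subgroup G) [K.Normal] {p : ℕ} (hp : p.Prime) (h : ∀ χ, IsIrrCharacter G χ →
    K ≤ charKer χ → charDegree χ ≠ 1 → p ∣ charDegree χ) : ∃ L : Subgroup G, L.Normal ∧ K ≤ L ∧
      (K.relIndex L).Coprime p ∧ ∃ k, L.index = p ^ k := by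
  have hs := QuotientGroup.mk'_surjective K
  obtain ⟨N, _, h1, k, h2⟩ := degT_exists_normal_complement (G := G ⧸ K) hp fun χ hχ =>
    h _ hχ.comp_mk (le_charKer_comp_mk _ _)
  refine ⟨N.comap (QuotientGroup.mk' K), inferInstance, QuotientGroup.le_comap_mk' _ _, ?_, k, ?_⟩
  · rwa [← GT.card_map_mk'_eq_relIndex, map_comap_eq_self_of_surjective hs]
  · rwa [index_comap_of_surjective _ hs]

/-- Gallagher's theorem over a quotient of prime power order. -/
theorem sec_a {K : Subgroup G} [K.Normal] {s k : ℕ} (hs : s.Prime) (hK : K.index = s ^ k)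
    {β χ : G → ℂ} (hβ : IsIrrCharacter G β) (hk : K ≤ charKer β) (hχ : IsIrrCharacter G χ)
    (h : ¬ s ∣ charDegree χ) : ∃ ψ, IsIrrCharacter G ψ ∧ K ⊓ charKer χ ≤ charKer ψ ∧
      charDegree ψ = charDegree β * charDegree χ := by
  obtain ⟨θ, hθ, h1⟩ := exists_irr_under K hχ
  obtain ⟨e, h2, h3⟩ := Nd.exists_deg_eq hχ hθ h1
  obtain rfl : e = 1 := by_contra fun he =>
    h ((prime_dvd_of_dvd_pow_of_ne_one hs (hK ▸ h2) he).trans ⟨_, h3⟩)
  have h4 := (hχ.isCharacter.restrict K).eq_irr_of_apply_one hθ h1 (by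
    rw [← hθ.coe_charDegree, ← one_mul (charDegree θ), ← h3, hχ.coe_charDegree]; rfl)
  refine ⟨_, gallagher_mul_irr hχ.isCharacter (h4 ▸ hθ) hβ hk, fun x hx g => ?_,
    hβ.isCharacter.charDegree_mul hχ.isCharacter⟩
  rw [Pi.mul_apply, hk hx.1, hx.2, Pi.mul_apply]

theorem frob {N K A : Subgroup G} [N.Normal] [hK : K.Normal] [A.Normal] (h : FrobSec N K)
    (hA : A ≤ K) {ψ : N → ℂ} (hψ : IsIrrCharacter N ψ) (hk : A.subgroupOf N ≤ charKer ψ) :
    (∃ χ, IsIrrCharacter G χ ∧ A ≤ charKer χ ∧ charDegree χ = N.index * charDegree ψ) ∨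
      K.relIndex N ∣ charDegree ψ ^ 2 := by
  let L : Subgroup (N →* ℂˣ) :=
    { carrier := {f | K.subgroupOf N ≤ f.ker}
      one_mem' := fun _ _ => rfl
      mul_mem' := fun {a b} ha hb x hx => by
        rw [MonoidHom.mem_ker, MonoidHom.mul_apply, ha hx, hb hx, one_mul]
      inv_mem' := fun {a} ha x hx => by
        rw [MonoidHom.mem_ker, MonoidHom.inv_apply, ha hx, inv_one] }
  let _ : MulAction L (N → ℂ) :=
    { smul := fun a x n => a.1 n * x n
      one_smul := fun x => funext fun n => one_mul _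
      mul_smul := fun a b x => funext fun n => mul_assoc _ _ _ }
  refine or_iff_not_imp_left.2 fun H => deg12_index_dvd_sq hψ fun n hn => ?_
  obtain ⟨f, hf, hfn⟩ := h.exists_hom hn
  have h1 := deg12_smul_eq (Λ := L) (ψ := ψ) N (fun g => ((linConj g).comp L.subtype).codRestrict L
    fun a x hx => a.2 (hK.conj_mem _ hx g)) (fun g => conjChar g)
    (fun g h a => Subtype.ext (linConj_mul g h a.1)) conjChar_mul (fun g a x => rfl)
    (fun a => Subtype.ext (linConj_one a.1))
    (fun g hg a => conjChar_of_mem (hψ.monoidHom_mul a.1).isClassFunction hg)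
    (fun g hg a ha => Subtype.ext (h.eq_one hg a.2 (congrArg Subtype.val ha))) (fun a => ?_) ⟨f, hf⟩
  · exact (mul_left_eq_self₀.1 (congrFun h1 n)).resolve_left fun h => hfn (Units.ext h)
  · have h2 := hψ.monoidHom_mul a.1
    by_contra h3
    push Not at h3
    have h4 := isIrrCharacter_indFun_of_inertia_le h2 fun g hg => by_contra fun hg' => h3 g hg' hg
    refine H ⟨_, h4, fun x hx => h4.mem_charKer.2 (indFun_apply_eq_of_normal (hA.trans h.lt.le)
      (fun y hy => ?_) hx), ?_⟩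
    · rw [map_one, show a.1 ⟨y, (hA.trans h.lt.le) hy⟩ = 1 from a.2 (hA hy),
        apply_eq_of_mem_charKer (hk (x := ⟨y, _⟩) hy)]
    · rw [charDegree_indFun N h2.isCharacter]
      exact congrArg _ (charDegree_congr (by simp))

theorem sec_b0 {E K : Subgroup G} [E.Normal] [K.Normal] (h : FrobSec E K) :
    ∃ β, IsIrrCharacter G β ∧ K ≤ charKer β ∧ charDegree β ≠ 1 ∧ charDegree β = E.index := by
  rcases frob h le_rfl IsIrrCharacter.one fun _ _ _ => rfl with ⟨β, h1, h2, h3⟩ | h1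
  · rw [charDegree_one, mul_one] at h3
    exact ⟨β, h1, h2, h3 ▸ mt index_eq_one.1 h.ne_top, h3⟩
  · rw [charDegree_one, one_pow, Nat.dvd_one, relIndex_eq_one] at h1
    exact absurd h1 h.lt.not_ge

theorem sec_b {E K A : Subgroup G} [E.Normal] [K.Normal] [A.Normal] (h : FrobSec E K) (hA : A ≤ K)
    {χ : G → ℂ} (hχ : IsIrrCharacter G χ) (hk : A ≤ charKer χ) (hd : charDegree χ = E.index)
    (hE : ¬ ⁅E, E⁆ ≤ charKer χ) : ∃ t ψ, 1 < t ∧ t ∣ E.index ∧ IsIrrCharacter G ψ ∧
      A ≤ charKer ψ ∧ charDegree ψ = E.index * t := by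
  obtain ⟨θ, hθ, h1⟩ := exists_irr_under E hχ
  have h2 := hd ▸ charDegree_dvd_of_under hχ hθ h1
  rcases frob h hA hθ (ker_under hχ hθ h1 hk) with ⟨ψ, h3, h4, h5⟩ | h3
  · refine ⟨_, ψ, lt_of_le_of_ne hθ.charDegree_pos fun h6 => hE ?_, h2, h3, h4, h5⟩
    refine le_ker_of_under (commutator_le_left _ _) hχ hθ h1 ?_
    rw [Gr.subgroupOf_commutator_dgr]
    exact (charDegree_eq_one_iff_commutator_le hθ).1 h6.symm
  · exact absurd (relIndex_eq_one.1 (Nat.eq_one_of_dvd_coprimes (h.coprime.pow_right 2)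
      dvd_rfl (h3.trans (pow_dvd_pow_of_dvd h2 2)))) h.lt.not_ge

/-- Isaacs, Lemma 12.3. -/
theorem sec [Group.IsSolvable G] {K₀ : Subgroup G} [K₀.Normal] (h : ¬ commutator G ≤ K₀) :
    ∃ K : Subgroup G, K.Normal ∧ K₀ ≤ K ∧ ¬ commutator G ≤ K ∧
      ((∃ s k : ℕ, s.Prime ∧ K.index = s ^ k) ∨ ∃ E : Subgroup G, E.Normal ∧ FrobSec E K) := by
  obtain ⟨K, _, h3, h4, hmin⟩ := deg12_exists_maximal h
  have hs := QuotientGroup.mk'_surjective K
  have h5 : commutator G ≤ (commutator (G ⧸ K)).comap (QuotientGroup.mk' K) := by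
    rw [deg12_commutator_quotient]
    exact le_comap_map _ _
  have h0 : commutator (G ⧸ K) ≠ ⊥ := fun e => h4 (by
    rwa [e, MonoidHom.comap_bot, QuotientGroup.ker_mk'] at h5)
  have hab : ⁅commutator (G ⧸ K), commutator (G ⧸ K)⁆ = ⊥ := by_contra fun e =>
    (GT.commutator_lt_of_isSolvable h0).not_ge (hmin _ inferInstance e)
  refine ⟨K, inferInstance, h3, h4, ?_⟩
  by_cases hnc : ⁅commutator (G ⧸ K), (⊤ : Subgroup (G ⧸ K))⁆ = ⊥
  · have : IsMulCommutative ((G ⧸ K) ⧸ commutator (G ⧸ K)) :=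
      Normal.quotient_commutative_iff_commutator_le.2 le_rfl
    have := GT.isNilpotent_of_isMulCommutative (G := (G ⧸ K) ⧸ commutator (G ⧸ K))
    have := Subgroup.isNilpotent_of_ker_le_center (QuotientGroup.mk' (commutator (G ⧸ K))) (by
      rw [QuotientGroup.ker_mk']
      exact fun a ha => mem_center_iff.2 fun b =>
        commutator_eq_bot_iff_le_centralizer.1 hnc ha b trivial)
    have : Nontrivial (G ⧸ K) := by_contra fun e => h0 (by
      rw [not_nontrivial_iff_subsingleton] at e; exact Subsingleton.elim _ _)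
    obtain ⟨s, hs, h6⟩ := GT.exists_pCore_ne_bot (G ⧸ K)
    have := Fact.mk hs
    have h7 : pPrimeCore s (G ⧸ K) = ⊥ := by_contra fun e => h0 (le_bot_iff.1 ((le_inf
      (hmin _ inferInstance h6) (hmin _ inferInstance e)).trans
        (GT.pCore_inf_eq_bot (GT.coprime_card_pPrimeCore s)).le))
    have h8 := GT.pCore_sup_pPrimeCore (G := G ⧸ K) s
    rw [h7, sup_bot_eq, GT.pCore_eq_top_iff, IsPGroup.iff_card] at h8
    exact Or.inl ⟨s, h8.choose, hs, h8.choose_spec⟩
  have hC := deg12_centralizer_le hmin hab hnc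
  refine Or.inr ⟨(commutator (G ⧸ K)).comap (QuotientGroup.mk' K), inferInstance,
    lt_of_le_of_ne (QuotientGroup.le_comap_mk' _ _) fun h => h4 (h5.trans h.ge), fun h => hnc ?_,
    h5, ?_, ?_, fun g hg n hn => ?_⟩
  · rwa [← map_top_of_surjective _ hs, ← h, map_comap_eq_self_of_surjective hs]
  · conv_rhs => rw [← QuotientGroup.ker_mk' K]
    rw [← Subgroup.map_eq_bot_iff, map_commutator, map_comap_eq_self_of_surjective hs, hab]
  · rw [← GT.card_map_mk'_eq_relIndex, map_comap_eq_self_of_surjective hs,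
      index_comap_of_surjective _ hs]
    exact S0588.result _ hC
  · obtain ⟨u, hu, h⟩ := exists_conj_eq_mul_of_fpf (N := commutator (G ⧸ K)) (h := (g : G ⧸ K))
      (fun k hk h => by_contra fun hk1 =>
        hg (hC k hk hk1 (mem_centralizer_singleton_iff.2 h))) (k := (n : G ⧸ K)) hn
    obtain ⟨u, rfl⟩ := QuotientGroup.mk_surjective u
    refine ⟨u, hu, (QuotientGroup.eq_one_iff _).1 ?_⟩
    simp only [QuotientGroup.mk_mul, QuotientGroup.mk_inv, ← mul_assoc, h]
    group

/-- Products of the canonical extension of an invariant character. -/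
theorem canon {W I : Subgroup G} [hW : W.Normal] [I.Normal] (hWI : W ≤ I)
    (hc : (Nat.card W).Coprime (W.relIndex I)) {θ : W → ℂ} (hθ : IsIrrCharacter W θ)
    (hinv : ∀ g : G, conjChar g θ = θ) {β : I → ℂ} (hβ : IsIrrCharacter I β)
    (hk : W.subgroupOf I ≤ charKer β) : ∃ ψ, IsIrrCharacter G ψ ∧ Ov ψ θ ∧
      (inertia I β).index * (charDegree β * charDegree θ) ∣ charDegree ψ := by
  have h1 := isIrrCharacter_subgroupOf hWI hθ
  have hc' : (W.subgroupOf I).index.Coprime (Nat.card (W.subgroupOf I)) := by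
    rw [card_subgroupOf_eq hWI]; exact hc.symm
  have h2 := hc'.coprime_dvd_right h1.isCharacter.detOrder_dvd_card
  have h3 := hc'.coprime_dvd_right h1.charDegree_dvd_card
  obtain ⟨η, hη, he, ho⟩ := exists_extends_detOrder_eq h1
    (invariant_iff_conjChar.2 (subOf_invariant fun g _ => hinv g)) (h2.mul_right h3)
  have h4 : ∀ g : G, conjChar g η = η := fun g =>
    eq_of_extends_of_coprime_detOrder h1 h3 hη.isCharacter (isCharacter_conjChar hη.isCharacter g) he
      (fun n => (he ⟨MulAut.conjNormal g n.1, hW.conj_mem _ n.2 g⟩).trans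
        (congrFun (hinv g) ⟨_, n.2⟩)) (ho ▸ h2) ((ho ▸ h2 :).coprime_dvd_right
          (hη.isCharacter.detOrder_comp_dvd (MulAut.conjNormal g : I ≃* I).toMonoidHom))
  have h5 : IsIrrCharacter (W.subgroupOf I) fun x => η x := by rwa [funext he]
  have h6 := gallagher_mul_irr hη.isCharacter h5 hβ hk
  obtain ⟨ψ, hψ, h7⟩ := exists_irr_over I h6
  refine ⟨ψ, hψ, classInner_res_ne_zero_trans hWI hψ.isCharacter h6 hθ.isCharacter h7 ?_,
    dvd_trans ?_ (index_inertia_mul_dvd hψ h6 h7)⟩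
  · rw [← classInner_res_subgroupOf hWI]
    convert classInner_res_mul_ne_zero h5 hβ hk using 3 with x
    exact (he x).symm
  rw [hβ.isCharacter.charDegree_mul hη.isCharacter, charDegree_congr (he 1)]
  refine mul_dvd_mul (index_dvd_of_le fun g hg => gallagher_inj hη.isCharacter h5
    (isIrrCharacter_conjChar hβ g) (fun x hx y => ?_) hβ hk ?_) (dvd_of_eq ?_)
  · simp only [conjChar_eq_comp, Function.comp, map_mul]
    exact hk (x := MulAut.conjNormal g x) (hW.conj_mem _ hx g) _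
  · rw [← mem_inertia'.1 hg, conjChar_mul_fun, h4]
  · exact congrArg _ (charDegree_congr rfl)

theorem canon' {W L : Subgroup G} [W.Normal] [L.Normal] (hWL : W ≤ L)
    (hc : (Nat.card W).Coprime (W.relIndex L)) {θ : W → ℂ} (hθ : IsIrrCharacter W θ)
    {β : L.subgroupOf (inertia W θ) → ℂ} (hβ : IsIrrCharacter _ β)
    (hk : ∀ x : L.subgroupOf (inertia W θ), ((x : inertia W θ) : G) ∈ W → x ∈ charKer β) :
    ∃ χ, IsIrrCharacter G χ ∧ Ov χ θ ∧ (inertia W θ).index *
      ((inertia _ β).index * (charDegree β * charDegree θ)) ∣ charDegree χ := by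
  have hT := le_inertia hθ.isClassFunction
  obtain ⟨ψ, hψ, h1, h2⟩ := canon (W := W.subgroupOf (inertia W θ)) (fun _ h => hWL h) (by
      rw [card_subgroupOf_eq hT]
      exact hc.coprime_dvd_right (GT.relIndex_comap_dvd_of_normal _))
    (isIrrCharacter_subgroupOf hT hθ) (subOf_invariant le_rfl) hβ hk
  rw [Ov, classInner_res_subgroupOf hT] at h1
  refine ⟨_, clifford_corr_irr hθ rfl hT hψ h1, by rwa [Ov, clifford_corr_mult hθ rfl hT hψ h1], ?_⟩
  rw [charDegree_indFun _ hψ.isCharacter]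
  exact mul_dvd_mul_left _ h2

/-- Degrees over a normal subgroup with abelian quotient when the character extends. -/
theorem deg_eq_of_comm {W N : Subgroup G} [W.Normal] [N.Normal] (hG : commutator G ≤ N)
    (hc : N.index.Coprime (W.relIndex N)) {χ : G → ℂ} (hχ : IsIrrCharacter G χ)
    (hk : W ≤ charKer χ) {β : N → ℂ} (hβ : IsIrrCharacter N β) (h : Ov χ β) :
    charDegree χ = (inertia N β).index * charDegree β := by
  have hT := le_inertia hβ.isClassFunction
  have h1 := ker_under hχ hβ h hk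
  obtain ⟨f, hf⟩ := hβ.isCharacter.exists_detHom
  have h2 : detOrder β ∣ W.relIndex N := by
    rw [hβ.isCharacter.detOrder_eq hf]
    refine orderOf_dvd_of_pow_eq_one (hom_pow_index_eq_one _ f fun n hn => Units.ext ?_)
    rw [← congrFun hf n, hβ.isCharacter.detChar_of_scalar (ω := 1) fun g => by
      rw [one_mul]; exact h1 hn g, one_pow, Units.val_one]
  have h3 := isIrrCharacter_subgroupOf hT hβ
  obtain ⟨η, hη, he⟩ := extends_of_coprime h3 (invariant_iff_conjChar.2 (subOf_invariant le_rfl))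
    ((hc.coprime_dvd_left (relIndex_dvd_index_of_le hT)).coprime_dvd_right h2 |>.coprime_dvd_right
      (hβ.isCharacter.detOrder_comp_dvd (subgroupOfEquivOfLe hT).toMonoidHom) |>.mul_right
      ((hc.coprime_dvd_left (relIndex_dvd_index_of_le hT)).coprime_dvd_right
        (charDegree_dvd_index_of_le_charKer hβ h1 :)))
  obtain ⟨ψ, hψ, h4, h5, -⟩ := clifford_corr_surj hβ rfl hT hχ h
  have h6 : IsIrrCharacter (N.subgroupOf (inertia N β)) fun x => η x := by rwa [funext he]
  obtain ⟨μ, -, h7⟩ := gallagher_surj_of_commutator_le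
    (commutator_le_subgroupOf ((commutator_mono le_top le_top).trans hG)) hη.isCharacter h6 hψ (by
      rwa [funext he, classInner_res_subgroupOf hT])
  rw [← h5, charDegree_indFun _ hψ.isCharacter]
  exact congrArg _ (charDegree_congr (by
    rw [h7]; exact (by simp : (μ 1 : ℂ) * η 1 = η 1).trans (he 1)))

/-- A coprime action fixing all nonlinear characters centralises the derived subgroup. -/
theorem cent_of_fix {W R : Subgroup G} [hW : W.Normal] (hn : Group.IsNilpotent W)
    (hc : (Nat.card R).Coprime (Nat.card W))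
    (h : ∀ θ, IsIrrCharacter W θ → charDegree θ ≠ 1 → R ≤ inertia W θ) : ⁅⁅W, W⁆, R⁆ = ⊥ := by
  have h0 : ⁅W, W⁆ ≤ W := commutator_le_left _ _
  have h1 : ⁅⁅W, W⁆, R⁆ ≤ ⁅W, W⁆ := commutator_le_left _ _
  refine GT.Tr.eq_bot_of_le_commutator hn (h1.trans h0) ?_
  rw [← GT.CopAct.commutator_commutator_eq (A := R) (K := ⁅W, W⁆) le_normalizer_of_normal
    (hc.coprime_dvd_right (card_dvd_of_le h0))]
  conv_rhs => rw [GT.CopAct.commutator_commutator_eq (A := R) (K := ⁅W, W⁆) le_normalizer_of_normal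
    (hc.coprime_dvd_right (card_dvd_of_le h0))]
  refine commutator_le.2 fun b hb x hx => ?_
  have hb' := inv_mem (h1 hb)
  obtain ⟨u, hu⟩ := isConj_iff.1 ((isConj_iff_forall_irr (g := (⟨b⁻¹, h0 hb'⟩ : W))
    (h := ⟨x * b⁻¹ * x⁻¹, hW.conj_mem _ (h0 hb') x⟩)).2 fun θ => by
      by_cases h2 : charDegree θ.1 = 1
      · have h3 := (charDegree_eq_one_iff_commutator_le θ.2).1 h2
        rw [← Gr.subgroupOf_commutator_dgr] at h3
        exact (apply_eq_of_mem_charKer (h3 hb')).trans (apply_eq_of_mem_charKer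
          (h3 (Normal.conj_mem (H := ⁅W, W⁆) inferInstance _ hb' x))).symm
      · exact (mem_inertia.1 (h _ θ.2 h2 hx) _).symm)
  have e : ⁅b, x⁆ = ⁅b, (u : G)⁆ := by
    have := congrArg Subtype.val hu
    simp only [coe_mul, InvMemClass.coe_inv] at this
    rw [commutatorElement_def, commutatorElement_def, mul_assoc b, mul_assoc b, ← this]
    group
  exact e ▸ commutator_mem_commutator hb u.2

/-- A fixed point free action on linear characters stays so on restrictions. -/
theorem eq_one_of_fpf {N : Subgroup G} [hN : N.Normal] {t : G} (P : N → Prop)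
    (hP : ∀ x, P x → P ⟨t * x * t⁻¹, hN.conj_mem x x.2 t⟩) (hf : ∀ μ : N →* ℂˣ, t ∈ St μ → μ = 1)
    {ν : N →* ℂˣ} (h : ∀ x, P x → linConj t ν x = ν x) {x : N} (hx : P x) : ν x = 1 := by
  have hinj : ∀ a b : N →* ℂˣ, linConj t a * a⁻¹ = linConj t b * b⁻¹ → a = b := fun a b hab => by
    rw [← mul_inv_eq_one]
    refine hf _ (mem_inertia_lin.2 ?_)
    rw [map_mul, map_inv]
    exact Nd.mi_swap' hab
  obtain ⟨μ, hμ⟩ := (Finite.injective_iff_surjective (f := fun u : {μ : N →* ℂˣ // ∀ x, P x → μ x = 1} =>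
    (⟨linConj t u.1 * u.1⁻¹, fun y hy => by
      rw [MonoidHom.mul_apply, MonoidHom.inv_apply, linConj_apply, u.2 _ hy, u.2 _ (hP y hy),
        mul_inv_cancel]⟩ : {μ : N →* ℂˣ // ∀ x, P x → μ x = 1}))).1
    (fun a b hab => Subtype.ext (hinj _ _ (congrArg Subtype.val hab)))
    ⟨linConj t ν * ν⁻¹, fun y hy => by
      rw [MonoidHom.mul_apply, MonoidHom.inv_apply, h y hy, mul_inv_cancel]⟩
  exact hinj _ _ (congrArg Subtype.val hμ) ▸ μ.2 x hx

end Cfsg.Agent.Gar
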