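import Mathlib
import Cfsg.Agent.Gar.B
import Cfsg.Agent.GT.CoprimeAbelian
import Cfsg.Agent.GT.HallTools
import Cfsg.Agent.GT.PStable

/-!
# Solvable groups with four character degrees: a coprime abelian section
-/

set_option autoImplicit false

namespace Cfsg.Agent.Gar

open Cfsg Cfsg.Agent.Ch Cfsg.Agent.Deg Subgroup

attribute [local instance] Fintype.ofFinite

variable {G : Type*} [Group G] [Finite G]

/-- An abelian `r`-group `R` which is normal modulo the normal `r'`-subgroup `F`. -/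
structure S0 (F R : Subgroup G) (r : ℕ) : Prop where
  hr : r.Prime
  pR : IsPGroup r R
  cop : ¬ r ∣ Nat.card F
  nL : (F ⊔ R).Normal
  comm : ∀ a ∈ R, ∀ b ∈ R, a * b = b * a

/-- The normal closure. -/
abbrev VV (R : Subgroup G) : Subgroup G := normalClosure (R : Set G)

/-- The normal complement of `R` in its normal closure. -/
abbrev WW (F R : Subgroup G) : Subgroup G := F ⊓ VV R

namespace S0

variable {F R : Subgroup G} {r : ℕ} [F.Normal] (h : S0 F R r)
include h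

theorem copr {A B : Subgroup G} (hA : A ≤ R) (hB : B ≤ F) : (Nat.card A).Coprime (Nat.card B) :=
  have := Fact.mk h.hr
  ((GT.CopAct.coprime_of_isPGroup_left h.pR h.cop).coprime_dvd_left
    (card_dvd_of_le hA)).coprime_dvd_right (card_dvd_of_le hB)

theorem eq_bot {A : Subgroup G} (hA : A ≤ R) (hB : A ≤ F) : A = ⊥ :=
  card_eq_one.1 ((Nat.coprime_self _).1 (h.copr hA hB))

theorem inf_bot : R ⊓ F = ⊥ := h.eq_bot inf_le_left inf_le_right

theorem V_le : VV R ≤ WW F R ⊔ R := fun v hv => by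
  have := h.nL
  obtain ⟨f, hf, x, hx, rfl⟩ := mem_sup_of_normal_left.1
    ((normalClosure_le_normal (le_sup_right : R ≤ F ⊔ R) : VV R ≤ F ⊔ R) hv)
  exact mul_mem_sup ⟨hf, (mul_mem_cancel_right (le_normalClosure hx)).1 hv⟩ hx

theorem rel : ∃ k, (WW F R).relIndex (VV R) = r ^ k := by
  have := Fact.mk h.hr
  obtain ⟨k, hk⟩ := IsPGroup.iff_card.1 h.pR
  have h1 := GT.relIndex_dvd_of_le_right (A := WW F R) h.V_le
  rw [relIndex_sup_left] at h1
  obtain ⟨j, -, hj⟩ := (Nat.dvd_prime_pow h.hr).1 (hk ▸ h1.trans (index_dvd_card _))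
  exact ⟨j, hj⟩

theorem V_le_of {T : Subgroup G} (hW : WW F R ≤ T) (hT : ¬ r ∣ T.index) : VV R ≤ T :=
  le_of_not_dvd_index h.hr hW h.rel.choose_spec hT

theorem frat : WW F R ⊔ normalizer (R : Set G) = ⊤ := by
  have := Fact.mk h.hr
  have h1 := degK_frattini (M := VV R) h.pR le_normalClosure fun h1 => h.cop (h1.trans (by
    rw [le_antisymm h.V_le (sup_le inf_le_right le_normalClosure)]
    exact (GT.HT.relIndex_sup_dvd_card le_normalizer_of_normal).trans (card_dvd_of_le inf_le_left)))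
  exact eq_top_iff.2 (h1.ge.trans (sup_le le_sup_right (h.V_le.trans
    (sup_le_sup_left le_normalizer _))))

theorem W_le : WW F R ≤ ⁅WW F R, R⁆ := by
  have h0 : ⁅WW F R, R⁆ ≤ WW F R := commutator_le_left _ _
  have h1 : ⁅WW F R, R⁆.Normal := GT.normal_of_sup_eq_top h.frat
    (normalizer_commutator_ge_left _ _) (GT.le_normalizer_commutator le_normalizer_of_normal le_rfl)
  have h2 : (⁅WW F R, R⁆ ⊔ R).Normal := GT.normal_of_sup_eq_top h.frat
    (fun w hw => GT.mem_normalizer_iff_of_finite.2 fun b hb => by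
      obtain ⟨d, hd, x, hx, rfl⟩ := mem_sup_of_normal_left.1 hb
      have := mul_mem_sup (mul_mem (h1.conj_mem _ hd w) (commutator_mem_commutator hw hx)) hx
      simpa [commutatorElement_def, mul_assoc] using this)
    (GT.CopAct.le_normalizer_sup le_normalizer_of_normal le_rfl)
  intro w hw
  obtain ⟨d, hd, x, hx, rfl⟩ := mem_sup_of_normal_left.1
    ((normalClosure_le_normal (le_sup_right : R ≤ ⁅WW F R, R⁆ ⊔ R) : VV R ≤ _) hw.2)
  rwa [mem_bot.1 (h.inf_bot.le ⟨hx, ((mul_mem_cancel_left (h0 hd)).1 hw).1⟩), mul_one]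

theorem nofix {f : WW F R →* ℂˣ} (hf : R ≤ St f) : f = 1 := Pal.eq_one_of_fix h.W_le hf

theorem ex (f : WW F R →* ℂˣ) : Ex f := ex_of_sup h.frat fun n hn => lin_comm f
  (GT.CopAct.commutator_inf_centralizer_le le_normalizer_of_normal (h.copr le_rfl inf_le_left)
    ⟨h.W_le n.2, ((GT.CopAct.inf_normalizer_eq_inf_centralizer le_normalizer_of_normal
      (h.eq_bot inf_le_left (inf_le_right.trans inf_le_left))).le ⟨n.2, hn⟩).2⟩)

theorem dvd {f : WW F R →* ℂˣ} (hf : f ≠ 1) : r ∣ (St f).index := by_contra fun h1 =>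
  hf (h.nofix (le_normalClosure.trans (h.V_le_of (le_St f) h1)))

theorem dvd_deg {f : WW F R →* ℂˣ} (hf : f ≠ 1) {χ : G → ℂ} (hχ : IsIrrCharacter G χ)
    (ho : Ov χ fun n => (f n : ℂ)) : r ∣ charDegree χ :=
  (h.dvd hf).trans (index_inertia_dvd hχ (isIrrCharacter_monoidHom_units f) ho)

omit h in
theorem comm_le : ⁅F, R⁆ ≤ WW F R := le_inf (commutator_le_left _ _)
  ((commutator_mono le_rfl le_normalClosure).trans (commutator_le_right _ _))

variable (hn : Group.IsNilpotent F) (hC : centralizer (F : Set G) ≤ F) (h1 : R ≠ ⊥)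
include hC h1

theorem W_ne : WW F R ≠ ⊥ := fun e => h1 (h.eq_bot le_rfl
  ((GT.CopAct.commutator_eq_bot_iff.1 (le_bot_iff.1 (e ▸ comm_le))).trans hC))

include hn

theorem big {χ : G → ℂ} (hχ : IsIrrCharacter G χ) (hk : WW F R ≤ charKer χ) :
    ∃ ψ, IsIrrCharacter G ψ ∧ charDegree χ < charDegree ψ := by
  obtain ⟨f, hf⟩ := exists_reg (WW F R) h.comm (h.copr le_rfl inf_le_left).symm
  have := GT.isNilpotent_of_le (inf_le_left : WW F R ≤ F)
  have h2 := h.copr (inf_le_left : R ⊓ St f ≤ R) (inf_le_left : WW F R ≤ F)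
  have h3 := h.eq_bot inf_le_left ((GT.CopAct.le_centralizer_of_commutator_le h2
    ((commutator_mono le_rfl inf_le_left).trans comm_le) (Pal.le_cent_of_comm_le h2
      (Pal.comm_le_of_linConj fun g hg μ => mem_inertia_lin.1 (hf μ hg)))).trans hC)
  obtain ⟨ψ, h4, -, h5⟩ := (h.ex f).lt (V := VV R) (fun e => h1 (h.eq_bot le_rfl
    (le_normalClosure.trans (e.trans inf_le_left)))) (fun v hv => by
      obtain ⟨w, hw, x, hx, rfl⟩ := mem_sup_of_normal_left.1 (h.V_le hv.1)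
      rwa [mem_bot.1 (h3.le ⟨hx, (mul_mem_cancel_left (le_St f hw)).1 hv.2⟩), mul_one]) hχ hk
  exact ⟨ψ, h4, h5⟩

theorem big2 (hc : (Nat.card F).Coprime F.index) {χ : G → ℂ} (hχ : IsIrrCharacter G χ)
    (hk : F ≤ charKer χ) :
    ∃ ψ, IsIrrCharacter G ψ ∧ charDegree ψ ∣ F.index ∧ charDegree χ < charDegree ψ := by
  obtain ⟨f, hf⟩ := exists_reg F h.comm (h.copr le_rfl le_rfl).symm
  have h3 := h.eq_bot inf_le_left ((Pal.le_cent_of_comm_le (h.copr inf_le_left le_rfl)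
    (Pal.comm_le_of_linConj fun g hg μ => mem_inertia_lin.1 (hf μ hg))).trans hC)
  have := h.nL
  obtain ⟨ψ, h4, h5, h6⟩ := (ex_of_coprime hc f).lt (V := F ⊔ R) (fun e => h1 (h.eq_bot le_rfl
    (le_sup_right.trans e))) (fun v hv => by
      obtain ⟨w, hw, x, hx, rfl⟩ := mem_sup_of_normal_left.1 hv.1
      rwa [mem_bot.1 (h3.le ⟨hx, (mul_mem_cancel_left (le_St f hw)).1 hv.2⟩), mul_one]) hχ hk
  obtain ⟨e, h7, h8⟩ := Nd.exists_deg_eq h4 (isIrrCharacter_monoidHom_units f) h5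
  exact ⟨ψ, h4, by rwa [h8, charDegree_linear, mul_one], h6⟩

end S0

theorem exists_S0 [Group.IsSolvable G] {p : ℕ} (hp : p.Prime) {A : Subgroup (G ⧸ pCore p G)}
    [A.Normal] (hA : A ≠ ⊥) {B : Subgroup G} (hB : A ≤ B.map (QuotientGroup.mk' _)) :
    ∃ R r, S0 (pCore p G) R r ∧ R ≠ ⊥ ∧ R ≤ B ∧ r ≠ p ∧ r ∣ Nat.card A := by
  obtain ⟨N, h1, h2⟩ := GT.exists_isMinNormal_le hA
  obtain ⟨r, hr, h3, h4⟩ := h1.exists_isPGroup
  have := h1.normal
  have := Fact.mk hr
  have := Fact.mk hp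
  obtain ⟨P, h5, h6⟩ := GT.exists_isPGroup_map_eq ((QuotientGroup.mk' _).comp B.subtype) h3 (by
    rw [MonoidHom.range_comp, range_subtype]; exact h2.trans hB)
  rw [← map_map] at h6
  have hne : r ≠ p := by
    rintro rfl
    exact h1.ne_bot (le_bot_iff.1 ((GT.le_pCore h3).trans GT.pCore_quotient_pCore.le))
  have h7 : ¬ r ∣ Nat.card (pCore p G) := fun e => by
    obtain ⟨k, hk⟩ := IsPGroup.iff_card.1 (GT.isPGroup_pCore (G := G) p)
    exact hne ((Nat.prime_dvd_prime_iff_eq hr hp).1 (hr.dvd_of_dvd_pow (hk ▸ e)))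
  have h8 := (disjoint_of_coprime_natCard
    (GT.CopAct.coprime_of_isPGroup_left (h5.map B.subtype) h7)).eq_bot
  refine ⟨P.map B.subtype, r, ⟨hr, h5.map _, h7, ?_, fun a ha b hb => ?_⟩, fun e => h1.ne_bot ?_,
    map_subtype_le _, hne, ?_⟩
  · rw [sup_comm, ← QuotientGroup.ker_mk' (pCore p G), ← comap_map_eq, h6]
    infer_instance
  · rw [← mul_inv_eq_one, ← mem_bot, ← h8]
    refine mem_inf.2 ⟨mul_mem (mul_mem ha hb) (inv_mem (mul_mem hb ha)),
      (QuotientGroup.eq_one_iff _).1 ?_⟩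
    have := congrArg Subtype.val (h4.is_comm.comm ⟨_, h6 ▸ mem_map_of_mem _ ha⟩
      ⟨_, h6 ▸ mem_map_of_mem _ hb⟩)
    rw [QuotientGroup.mk_mul, QuotientGroup.mk_inv, mul_inv_eq_one]
    exact this
  · rw [← h6, e, Subgroup.map_bot]
  · obtain ⟨k, hk⟩ := IsPGroup.iff_card.1 h3
    refine dvd_trans ?_ (card_dvd_of_le h2)
    rw [hk]
    exact dvd_pow_self _ fun e => h1.ne_bot (card_eq_one.1 (by rw [hk, e, pow_zero]))

end Cfsg.Agent.Gar
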