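import Mathlib
import Cfsg.Agent.Gar.C

/-!
# Solvable groups with four character degrees: the case `G'' ≤ O_p(G)`
-/

set_option autoImplicit false

namespace Cfsg.Agent.Gar

open Cfsg Cfsg.Agent.Ch Cfsg.Agent.Deg Subgroup

attribute [local instance] Fintype.ofFinite derivedSeries_normal

variable {G : Type*} [Group G] [Finite G]

theorem fle {a b p : ℕ} (h : a ∣ b) (hb : 0 < b) : a.factorization p ≤ b.factorization p :=
  (Nat.factorization_le_iff_dvd (ne_zero_of_dvd_ne_zero hb.ne' h) hb.ne').2 h p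

theorem not_dvd_pow {p s k n : ℕ} (hp : p.Prime) (hs : s.Prime) (h : s ≠ p) (h1 : n ∣ s ^ k) :
    ¬ p ∣ n := fun e => h ((Nat.prime_dvd_prime_iff_eq hp hs).1 (hp.dvd_of_dvd_pow (e.trans h1))).symm

theorem dvd_of_over {p : ℕ} (hp : p.Prime) {W : Subgroup G} [W.Normal] (hW : IsPGroup p W)
    {θ : W → ℂ} (hθ : IsIrrCharacter W θ) (h1 : charDegree θ ≠ 1) : p ∣ charDegree θ := by
  have := Fact.mk hp
  obtain ⟨k, hk⟩ := exists_charDegree_eq_pow hW hθ
  exact prime_dvd_of_dvd_pow_of_ne_one hp hk.dvd h1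

omit [Finite G] in
theorem der_le (n : ℕ) : derivedSeries G (n + 1) ≤ commutator G := commutator_mono le_top le_top

/-- The end of the Frobenius case. -/
theorem endI {p r a : ℕ} (hp : p.Prime) {F R : Subgroup G} [F.Normal] (hF : IsPGroup p F)
    (h : S0 F R r) (hW : WW F R ≠ ⊥) (ha : ¬ p ∣ a)
    (hr : ∀ χ, IsIrrCharacter G χ → r ∣ charDegree χ → charDegree χ = a) :
    ⁅⁅F, F⁆, ⁅F, F⁆⁆ = ⊥ := by
  have := Fact.mk hp
  have hWp : IsPGroup p (WW F R) := hF.to_inf_left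
  have h1 : ∀ f : WW F R →* ℂˣ, f ≠ 1 → (St f).index = a := fun f hf => by
    obtain ⟨χ, h1, h2, h3⟩ := (h.ex f).deg_one
    exact h3 ▸ hr χ h1 (h.dvd_deg hf h1 h2)
  have h2 : ∀ f : WW F R →* ℂˣ, f ≠ 1 → ⁅F, F⁆ ≤ ⁅St f, St f⁆ := fun f hf => by
    obtain ⟨k, hk⟩ := IsPGroup.iff_card.1 hF
    have := le_of_not_dvd_index hp (bot_le (a := St f)) ((relIndex_bot_left F).trans hk)
      (h1 f hf ▸ ha)
    exact commutator_mono this this
  obtain ⟨f, hf, -⟩ := exists_fixed hp hWp hW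
  have h3 : ⁅F, F⁆ ≤ WW F R := by
    refine (h2 f hf).trans ?_
    rw [← map_subtype_commutator, map_le_iff_le_comap]
    refine deg12_commutator_le_of_forall_linear _ fun β hβ hk => ?_
    obtain ⟨χ, h3, h4, h5⟩ := (h.ex f).deg hβ hk
    rw [hr χ h3 (h.dvd_deg hf h3 h4), ← h1 f hf] at h5
    exact (Nat.mul_eq_left index_ne_zero_of_finite).1 h5.symm
  have h4 : ⁅F, F⁆ ≤ ⁅WW F R, WW F R⁆ := fun x hx => by_contra fun e => by
    obtain ⟨g, -, h4⟩ := exists_lin (x := ⟨x, h3 hx⟩) le_rfl e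
    obtain ⟨η, hη⟩ := h.ex g
    exact h4 ((hη ⟨x, h3 hx⟩ (le_St g (h3 hx))).symm.trans
      (lin_comm η (h2 g (fun e => h4 (e ▸ rfl)) hx)))
  have h5 := cent_of_fix hWp.isNilpotent (h.copr le_rfl inf_le_left) fun θ hθ h5 => by
    obtain ⟨χ, hχ, h6⟩ := exists_irr_over _ hθ
    refine le_normalClosure.trans (h.V_le_of (le_inertia hθ.isClassFunction) fun e => ha ?_)
    rw [← hr χ hχ (e.trans (index_inertia_dvd hχ hθ h6))]
    exact (dvd_of_over hp hWp hθ h5).trans (charDegree_dvd_of_under hχ hθ h6)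
  have h6 : VV R ≤ centralizer _ := normalClosure_le_normal (GT.CopAct.commutator_eq_bot_iff.1 h5)
  exact le_bot_iff.1 ((commutator_mono h4 h3).trans
    (GT.CopAct.commutator_eq_bot_iff.2 (inf_le_right.trans h6)).le)

theorem caseI [Group.IsSolvable G] {p x y z : ℕ} (hp : p.Prime) (hO : pPrimeCore p G = ⊥)
    (hcd : ∀ χ, IsIrrCharacter G χ → charDegree χ ≠ 1 →
      charDegree χ = x ∨ charDegree χ = y ∨ charDegree χ = z)
    (h2 : derivedSeries G 2 ≤ pCore p G) : derivedSeries G 4 = ⊥ := by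
  by_contra h4
  have := Fact.mk hp
  have hF := GT.isPGroup_pCore (G := G) p
  have hC := GT.centralizer_pCore_le hp hO
  have h3 : derivedSeries G 3 ≤ derivedSeries G 2 := commutator_le_left _ _
  obtain ⟨⟨χc, hc⟩, kc⟩ := exists_irr_not_le_charKer h4
  obtain ⟨χb, hb, kb, vb⟩ := t1 hp (hF.to_le (h3.trans h2)) hc kc
  obtain ⟨χa, ha, ka, va⟩ := t1 hp (hF.to_le h2) hb kb
  have a1 := deg_ne_one ha (der_le 1) ka
  have b1 := deg_ne_one hb (der_le 2) kb
  have c1 := deg_ne_one hc (der_le 3) kc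
  have a0 := ha.charDegree_pos
  have b0 := hb.charDegree_pos
  have c0 := hc.charDegree_pos
  simp only [vp] at va vb
  have D : ∀ χ, IsIrrCharacter G χ → charDegree χ ≠ 1 → charDegree χ = charDegree χa ∨
      charDegree χ = charDegree χb ∨ charDegree χ = charDegree χc := fun χ hχ h1 => by
    have e1 : charDegree χa ≠ charDegree χb := fun e => by rw [e] at va; omega
    have e2 : charDegree χb ≠ charDegree χc := fun e => by rw [e] at vb; omega
    have e3 : charDegree χa ≠ charDegree χc := fun e => by rw [e] at va; omega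
    have := hcd _ hχ h1
    have := hcd _ ha a1
    have := hcd _ hb b1
    have := hcd _ hc c1
    omega
  have pb : p ∣ charDegree χb := Nat.dvd_of_factorization_pos (by omega)
  have pc : p ∣ charDegree χc := Nat.dvd_of_factorization_pos (by omega)
  have D' : ∀ χ, IsIrrCharacter G χ → charDegree χ ≠ 1 → ¬ p ∣ charDegree χ →
      charDegree χ = charDegree χa := fun χ hχ h1 h => ((D χ hχ h1).resolve_right fun e =>
    e.elim (fun e => h (e ▸ pb)) fun e => h (e ▸ pc))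
  have h1 : ¬ commutator G ≤ pCore p G := fun h1 => by
    obtain ⟨ω, hω, kω, vω⟩ := t1 hp (hF.to_le h1) ha ka
    simp only [vp] at vω
    rcases D ω hω (deg_ne_one hω le_rfl kω) with e | e | e <;> rw [e] at vω <;> omega
  obtain ⟨K, _, hFK, hK, hsec⟩ := sec h1
  have hK1 : K.relIndex (commutator G) ≠ 1 := mt relIndex_eq_one.1 hK
  obtain ⟨s, hs, hsd, hsec⟩ : ∃ s : ℕ, s.Prime ∧ s ∣ K.relIndex (commutator G) ∧
      ((∃ k, K.index = s ^ k) ∨ ∃ E : Subgroup G, E.Normal ∧ FrobSec E K ∧ ¬ s ∣ E.index) := by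
    rcases hsec with ⟨s, k, hs, hk⟩ | ⟨E, _, hE⟩
    · exact ⟨s, hs, prime_dvd_of_dvd_pow_of_ne_one hs (hk ▸ relIndex_dvd_index_of_normal _ _) hK1,
        Or.inl ⟨k, hk⟩⟩
    · obtain ⟨s, hs, hd⟩ := Nat.exists_prime_and_dvd hK1
      exact ⟨s, hs, hd, Or.inr ⟨E, inferInstance, hE, fun e => hs.one_lt.ne'
        (Nat.eq_one_of_dvd_coprimes hE.coprime
          (hd.trans (GT.relIndex_dvd_of_le_right hE.commutator_le)) e)⟩⟩
  have := Fact.mk hs
  have hA : pCoreOf s (commutator (G ⧸ pCore p G)) ≠ ⊥ := fun e => by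
    have : IsMulCommutative (commutator (G ⧸ pCore p G)) := by
      refine le_centralizer_iff_isMulCommutative.1 (commutator_eq_bot_iff_le_centralizer.1 ?_)
      rwa [deg12_commutator_quotient, ← map_commutator, Subgroup.map_eq_bot_iff,
        QuotientGroup.ker_mk']
    have := GT.isNilpotent_of_isMulCommutative (G := commutator (G ⧸ pCore p G))
    have h5 := GT.pCoreOf_sup_pPrimeCoreOf s (commutator (G ⧸ pCore p G))
    rw [e, bot_sup_eq] at h5
    refine hs.coprime_iff_not_dvd.1 (h5 ▸ GT.coprime_card_pPrimeCoreOf s _ :).symm ?_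
    rw [deg12_commutator_quotient, GT.card_map_mk'_eq_relIndex]
    exact hsd.trans (relIndex_dvd_of_le_left _ hFK)
  obtain ⟨R, r, h0, hR, -, hrp, hrs⟩ := exists_S0 hp hA (B := commutator G)
    (deg12_commutator_quotient (pCore p G) ▸ GT.pCoreOf_le _)
  obtain rfl : r = s := by
    obtain ⟨k, hk⟩ := IsPGroup.iff_card.1 (GT.isPGroup_pCoreOf s (commutator (G ⧸ pCore p G)))
    exact (Nat.prime_dvd_prime_iff_eq h0.hr hs).1 (h0.hr.dvd_of_dvd_pow (hk ▸ hrs))
  have hW := h0.W_ne hC hR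
  obtain ⟨pa, ra⟩ : ¬ p ∣ charDegree χa ∧ r ∣ charDegree χa := by
    obtain ⟨f, hf, h5⟩ := exists_fixed hp hF.to_inf_left hW
    obtain ⟨χ, h6, h7, h8⟩ := (h0.ex f).deg_one
    have h9 := h0.dvd_deg hf h6 h7
    rw [← h8] at h5
    exact D' χ h6 (fun e => hs.one_lt.ne' (Nat.dvd_one.1 (e ▸ h9))) h5 ▸ ⟨h5, h9⟩
  have v0 := Nat.factorization_eq_zero_of_not_dvd pa
  rcases hsec with ⟨k, hk⟩ | ⟨E, _, hE, hsE⟩
  · obtain ⟨β, hβ, kβ, β1⟩ := exists_nonlinear_le_charKer K hK
    have h5 := hk ▸ charDegree_dvd_index_of_le_charKer hβ kβ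
    have h6 := D' β hβ β1 (not_dvd_pow hp hs hrp h5)
    have h7 : ∀ χ, IsIrrCharacter G χ → charDegree χ ≠ 1 → r ∣ charDegree χ := fun χ hχ h7 => by
      by_contra h8
      obtain ⟨ψ, hψ, -, h9⟩ := sec_a hs hk hβ kβ hχ h8
      have χ0 := hχ.charDegree_pos
      rw [h6] at h9
      have h10 := congrArg (·.factorization p) h9
      simp only [Nat.factorization_mul a0.ne' χ0.ne', Finsupp.add_apply, v0, zero_add] at h10
      have h11 : charDegree ψ = charDegree χ := by
        rcases D ψ hψ (h9 ▸ fun e => a1 (Nat.eq_one_of_mul_eq_one_right e)) with e | e | e <;>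
          rcases D χ hχ h7 with e' | e' | e' <;> rw [e, e'] at h10 ⊢ <;> omega
      exact a1 ((Nat.mul_eq_right χ0.ne').1 (h9.symm.trans h11))
    have h8 := degT_thompson hs h7
    have h9 := degT_thompson (G := pResidual r G) hp fun θ hθ h9 => by
      obtain ⟨χ, hχ, h10⟩ := deg12_charDegree_pResidual hs h8 hθ
      have h11 : p ∣ charDegree χ := by_contra fun e => h9 (by
        by_cases e' : charDegree χ = 1
        · simpa [e'] using h10
        obtain ⟨j, -, hj⟩ := (Nat.dvd_prime_pow hs).1 h5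
        rw [h10, D' χ hχ e' e, ← h6, hj, Nat.ordCompl_self_pow hs])
      rw [← Nat.ordProj_mul_ordCompl_eq_self (charDegree χ) r, ← h10] at h11
      exact (hp.dvd_mul.1 h11).resolve_left (not_dvd_pow hp hs hrp dvd_rfl)
    have h10 : (pResidual p (pResidual r G)).map (pResidual r G).subtype ≤ pPrimeCore p G :=
      GT.le_pPrimeCore (by rw [card_subtype]; exact (hp.coprime_iff_not_dvd.2 h9).symm)
    rw [hO, le_bot_iff, map_eq_bot_iff_of_injective _ (subtype_injective _),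
      GT.pResidual_eq_bot_iff] at h10
    obtain ⟨j, hj⟩ := GT.exists_index_pResidual (G := G) hs
    have h11 := hj ▸ index_dvd_of_le (GT.le_pCore h10)
    obtain ⟨ψ, hψ, h12, h13⟩ := h0.big2 hF.isNilpotent hC hR (by
      obtain ⟨i, hi⟩ := IsPGroup.iff_card.1 hF
      exact hi ▸ (hp.coprime_iff_not_dvd.2 (not_dvd_pow hp hs hrp h11)).pow_left i)
      hβ (hFK.trans kβ)
    have h14 := D' ψ hψ (by omega) (not_dvd_pow hp hs hrp (h12.trans h11))
    omega
  obtain ⟨β, hβ, -, β1, h5⟩ := sec_b0 hE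
  have hE2 : derivedSeries G 2 ≤ ⁅E, E⁆ := commutator_mono hE.commutator_le hE.commutator_le
  rcases D β hβ β1 with e | e | e
  · exact hsE (h5 ▸ e ▸ ra)
  · obtain ⟨t, ψ, t1, t2, hψ, -, h6⟩ := sec_b hE bot_le hb bot_le (e ▸ h5)
      fun e => kb (h3.trans (hE2.trans e))
    rw [← h5, e] at hsE t2 h6
    have h7 := fle (p := p) ⟨t, h6⟩ hψ.charDegree_pos
    have h8 : charDegree ψ = charDegree χc := by
      rcases D ψ hψ (h6 ▸ fun e => b1 (Nat.eq_one_of_mul_eq_one_right e)) with e | e | e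
      · rw [e] at h7; omega
      · exact absurd ((Nat.mul_eq_left b0.ne').1 (h6.symm.trans e)) t1.ne'
      · exact e
    have h9 := endI hp hF h0 hW pa fun χ hχ h9 => by
      rcases D χ hχ fun e => hs.one_lt.ne' (Nat.dvd_one.1 (e ▸ h9)) with e | e | e
      · exact e
      · exact absurd (e ▸ h9) hsE
      · rw [e, ← h8, h6] at h9
        exact absurd ((hs.dvd_mul.1 h9).elim id (·.trans t2)) hsE
    have h10 : derivedSeries G 3 ≤ ⁅pCore p G, pCore p G⁆ := commutator_mono h2 h2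
    exact h4 (le_bot_iff.1 (h9 ▸ commutator_mono h10 h10))
  · obtain ⟨t, ψ, t1, -, hψ, -, h6⟩ := sec_b hE bot_le hc bot_le (e ▸ h5)
      fun e => kc ((commutator_le_left _ _).trans (h3.trans (hE2.trans e)))
    rw [← h5, e] at h6
    have h7 := fle (p := p) ⟨t, h6⟩ hψ.charDegree_pos
    rcases D ψ hψ (h6 ▸ fun e => c1 (Nat.eq_one_of_mul_eq_one_right e)) with e | e | e
    · rw [e] at h7; omega
    · rw [e] at h7; omega
    · exact absurd ((Nat.mul_eq_left c0.ne').1 (h6.symm.trans e)) t1.ne'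

end Cfsg.Agent.Gar
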