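import Mathlib
import Cfsg.Agent.Gar.D
import Cfsg.Agent.S0018

/-!
# Solvable groups with four character degrees: the case `G'' ≰ O_p(G)`
-/

set_option autoImplicit false

namespace Cfsg.Agent.Gar

open Cfsg Cfsg.Agent.Ch Cfsg.Agent.Deg Subgroup

attribute [local instance] Fintype.ofFinite derivedSeries_normal

variable {G : Type*} [Group G] [Finite G]

theorem index_St_lt {N : Subgroup G} [N.Normal] {f : N →* ℂˣ} (hf : f ≠ 1) :
    (St f).index < ⁅N, N⁆.relIndex N := by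
  rw [relIndex, Gr.subgroupOf_commutator_dgr, ← card_monoidHom_units, index,
    Nat.card_eq_fintype_card, Nat.card_eq_fintype_card]
  refine Fintype.card_lt_of_injective_of_notMem (fun q => linConj q.out⁻¹ f) (fun a b e => ?_)
    (b := 1) fun ⟨q, hq⟩ => hf (linConj_injective _ (hq.trans (map_one _).symm))
  simp only at e
  rw [← a.out_eq', ← b.out_eq', QuotientGroup.eq, mem_inertia_lin, linConj_mul, e,
    ← linConj_mul, inv_mul_cancel, linConj_one]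

section One

variable {F R : Subgroup G} {p : ℕ} [F.Normal] (h : S0 F R p) (hR : ¬ p ∣ R.index)
include h hR

theorem S0.rel_eq (f : WW F R →* ℂˣ) :
    (St f).relIndex (VV R) = p ^ (St f).index.factorization p := by
  obtain ⟨k, hk⟩ := h.rel
  obtain ⟨j, -, hj⟩ := (Nat.dvd_prime_pow h.hr).1 (hk ▸ relIndex_dvd_of_le_left _ (le_St f))
  have h1 := hj ▸ Pal.relIndex_dvd_index_left (St f) (VV R)
  have h2 := index_dvd_of_le (inf_le_left : St f ⊓ VV R ≤ _)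
  rw [← relIndex_mul_index inf_le_right, inf_relIndex_right, hj] at h2
  have h3 := (Nat.Coprime.pow_left _ (h.hr.coprime_iff_not_dvd.2 fun e => hR (e.trans
    (index_dvd_of_le le_normalClosure)))).dvd_of_dvd_mul_right ((Nat.ordProj_dvd _ p).trans h2)
  rw [hj, le_antisymm ((h.hr.pow_dvd_iff_le_factorization index_ne_zero_of_finite).1 h1)
    ((Nat.pow_dvd_pow_iff_le_right h.hr.one_lt).1 h3)]

theorem S0.fix {v : ℕ} (hv : ∀ f : WW F R →* ℂˣ, f ≠ 1 → (St f).index = v) {f : WW F R →* ℂˣ}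
    (hf : f ≠ 1) (g : WW F R →* ℂˣ) : VV R ⊓ St f ≤ St g := by
  obtain ⟨c, hc⟩ := exists_reg (WW F R) h.comm (h.copr le_rfl inf_le_left).symm
  have h1 : ∀ g : WW F R →* ℂˣ, (St c).subgroupOf (VV R) ≤ (St g).subgroupOf (VV R) :=
    fun g ⟨t, ht⟩ ht' => by
      obtain ⟨w, hw, x, hx, rfl⟩ := mem_sup_of_normal_left.1 (h.V_le ht)
      exact mul_mem (le_St g hw) (hc g ⟨hx, (mul_mem_cancel_left (le_St c hw)).1 ht'⟩)
  have h2 : c ≠ 1 := fun e => hf (h.nofix fun x hx => hc f ⟨hx, mem_inertia_lin.2 (by simp [e])⟩)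
  have h3 := deg12_eq_of_le_of_index_le (h1 f)
    ((h.rel_eq hR c).trans (by rw [hv c h2, ← hv f hf, ← h.rel_eq hR f]; rfl)).le
  exact fun t ht => h1 g (x := ⟨t, ht.1⟩) (h3.ge ht.2)

end One

/-- The configuration of the second case. -/
structure H2 (p r u v m : ℕ) (R : Subgroup G) : Prop where
  hp : p.Prime
  hO : pPrimeCore p G = ⊥
  s0 : S0 (pCore p G) R r
  ne : R ≠ ⊥
  le : R ≤ derivedSeries G 2
  rp : r ≠ p
  cd : ∀ χ, IsIrrCharacter G χ → charDegree χ ≠ 1 →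
    charDegree χ = u ∨ charDegree χ = v ∨ charDegree χ = m
  lt : ∀ χ, IsIrrCharacter G χ → WW (pCore p G) R ≤ charKer χ → charDegree χ < m
  h4 : derivedSeries G 4 ≠ ⊥

namespace H2

variable {p r u v m : ℕ} {R : Subgroup G} (h : H2 p r u v m R)
include h

local notation "𝐖" => WW (pCore p G) R

omit [Finite G] in
theorem symm : H2 p r v u m R := { h with cd := fun χ hχ h1 => or_left_comm.1 (h.cd χ hχ h1) }

omit [Finite G] in
theorem cdX {χ : G → ℂ} (hχ : IsIrrCharacter G χ) (hk : 𝐖 ≤ charKer χ) (h1 : charDegree χ ≠ 1) :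
    charDegree χ = u ∨ charDegree χ = v := by
  have := h.cd χ hχ h1
  have := h.lt χ hχ hk
  omega

theorem nR : ¬ R ≤ pCore p G := fun e => h.ne (h.s0.eq_bot le_rfl e)

theorem exu : ∃ χ, IsIrrCharacter G χ ∧ pCore p G ≤ charKer χ ∧ u ≠ 1 ∧ charDegree χ = u := by
  by_contra H
  refine h.nR (h.le.trans (deg12_le_of_quotient _ (m := v) fun χ hχ hk h1 => ?_))
  exact (h.cdX hχ (inf_le_left.trans hk) h1).resolve_left fun e => H ⟨χ, hχ, hk, e ▸ h1, e⟩

omit h in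
theorem pW : IsPGroup p 𝐖 := (GT.isPGroup_pCore p).to_inf_left

theorem exθ : ∃ θ, IsIrrCharacter 𝐖 θ ∧ p ∣ charDegree θ := by
  have h1 := three 𝐖 (m := u) (n := v) fun χ hχ hk => or_iff_not_imp_left.2 (h.cdX hχ hk)
  obtain ⟨θ, h2, -, h3⟩ := exists_nonlinear_le_charKer (⊥ : Subgroup 𝐖) fun e => h.h4 (by
    have := map_mono (f := 𝐖.subtype) e
    rw [map_subtype_commutator, Subgroup.map_bot] at this
    exact le_bot_iff.1 ((commutator_mono h1 h1).trans this))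
  exact ⟨θ, h2, dvd_of_over h.hp pW h2 h3⟩

theorem ne_one {n : ℕ} (h1 : p ∣ n) : n ≠ 1 := fun e => h.hp.one_lt.ne' (Nat.dvd_one.1 (e ▸ h1))

variable [Group.IsSolvable G]

theorem pd : p ∣ u ∨ p ∣ v := by
  by_contra H
  push Not at H
  have := Fact.mk h.hp
  obtain ⟨P⟩ : Nonempty (Sylow p (G ⧸ pCore p G)) := inferInstance
  have := ito_normal (GT.isPSolvable_of_isSolvable inferInstance) (fun χ hχ e => by
    rcases h.cdX hχ.comp_mk (inf_le_left.trans (le_charKer_comp_mk _ _)) (h.ne_one e) with e' | e'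
    exacts [H.1 (e' ▸ e), H.2 (e' ▸ e)]) P
  have h1 : (pCore p G).index.Coprime p := (GT.sylow_eq_bot_iff_coprime P).1
    ((GT.pCore_eq_sylow P).symm.trans GT.pCore_quotient_pCore)
  obtain ⟨i, hi⟩ := IsPGroup.iff_card.1 (GT.isPGroup_pCore (G := G) p)
  have h2 := fun χ => h.s0.big2 (χ := χ) (GT.isPGroup_pCore p).isNilpotent
    (GT.centralizer_pCore_le h.hp h.hO) h.ne (hi ▸ h1.symm.pow_left i)
  obtain ⟨α, hα, kα, -, eα⟩ := h.exu
  obtain ⟨β, hβ, kβ, -, eβ⟩ := h.symm.exu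
  have h3 : m ∣ (pCore p G).index := by
    obtain ⟨ψ, h3, h4, h5⟩ := h2 α hα kα
    obtain ⟨φ, h6, h7, h8⟩ := h2 β hβ kβ
    have := hα.charDegree_pos
    have := hβ.charDegree_pos
    have := h.cd ψ h3 (by omega)
    have := h.cd φ h6 (by omega)
    exact (show charDegree ψ = m ∨ charDegree φ = m by omega).elim (· ▸ h4) (· ▸ h7)
  obtain ⟨θ, hθ, h4⟩ := h.exθ
  obtain ⟨χ, hχ, h5⟩ := exists_irr_over _ hθ
  have h6 := h4.trans (charDegree_dvd_of_under hχ hθ h5)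
  rcases h.cd χ hχ (h.ne_one h6) with e | e | e <;> rw [e] at h6
  exacts [H.1 h6, H.2 h6, h.hp.coprime_iff_not_dvd.1 h1.symm (h6.trans h3)]

theorem exa : ∃ (f : 𝐖 →* ℂˣ) (χ ξ : G → ℂ), ¬ p ∣ charDegree χ ∧ r ∣ charDegree χ ∧
    IsIrrCharacter G χ ∧ ¬ R ≤ charKer χ ∧ charDegree χ = (St f).index ∧ IsIrrCharacter G ξ ∧
    ¬ R ≤ charKer ξ ∧ 𝐖 ≤ charKer ξ ∧ charDegree ξ < charDegree χ := by
  obtain ⟨f, hf, h1⟩ := exists_fixed h.hp pW (h.s0.W_ne (GT.centralizer_pCore_le h.hp h.hO) h.ne)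
  obtain ⟨χ, h2, h3, h4⟩ := (h.s0.ex f).deg_one
  obtain ⟨ξ, h5, h6, h7, h8⟩ := star (le_St f) (mt h.s0.nofix hf)
  have := h2.isCharacter.charKer_normal
  exact ⟨f, χ, ξ, h4 ▸ h1, h.s0.dvd_deg hf h2 h3, h2, fun e => hf (monoidHom_units_coe_injective
    (eq_one_of_le_charKer_of_over h2.isCharacter (isIrrCharacter_monoidHom_units f) h3
      (inf_le_right.trans (normalClosure_le_normal e)))), h4, h5, h7, h6, h4 ▸ h8⟩

theorem case_ii (hv : p ∣ v) (hm : p ∣ m) : False := by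
  obtain ⟨-, χ, ξ, h1, h2, hχ, kχ, -, hξ, kξ, kξ', h3⟩ := h.exa
  have hr := h.s0.hr
  have hR := h.le.trans (der_le 1)
  have D : ∀ φ, IsIrrCharacter G φ → charDegree φ ≠ 1 → ¬ p ∣ charDegree φ → charDegree φ = u :=
    fun φ hφ h1 h2 => (h.cd φ hφ h1).resolve_right fun e =>
      e.elim (fun e => h2 (e ▸ hv)) fun e => h2 (e ▸ hm)
  have h4 := D χ hχ (deg_ne_one hχ hR kχ) h1
  rw [h4] at h1 h2 h3
  have h5 : ¬ r ∣ v := fun e => by
    obtain ⟨L, _, h5, h6, k, h7⟩ := thom 𝐖 hr fun φ hφ hk h5 =>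
      (h.cdX hφ hk h5).elim (· ▸ h2) (· ▸ e)
    have h8 := h.le.trans (deg12_le_of_quotient L (m := u) fun φ hφ hk h8 => D φ hφ h8
      (not_dvd_pow h.hp hr h.rp (h7 ▸ charDegree_dvd_index_of_le_charKer hφ hk)))
    obtain ⟨j, hj⟩ := h.s0.rel
    have h9 := GT.relIndex_dvd_of_le_right (A := 𝐖) (normalClosure_le_normal h8 : VV R ≤ L)
    exact h.nR (le_normalClosure.trans ((relIndex_eq_one.1 (Nat.eq_one_of_dvd_coprimes
      (h6.pow_right j) h9 hj.dvd)).trans inf_le_left))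
  obtain ⟨K, _, hK, hK', hsec⟩ := sec (K₀ := derivedSeries G 2) fun e =>
    (GT.commutator_lt_of_isSolvable (N := commutator G) fun e' => h.ne (le_bot_iff.1
      (e' ▸ hR))).not_ge e
  have hWK : 𝐖 ≤ K := inf_le_right.trans ((normalClosure_le_normal h.le).trans hK)
  obtain ⟨α, hα, kα, u1, eα⟩ := h.exu
  obtain ⟨γ, hγ, kγ, v1, eγ⟩ := h.symm.exu
  have u0 := eα ▸ hα.charDegree_pos
  have v0 := eγ ▸ hγ.charDegree_pos
  have huv : ∀ φ, IsIrrCharacter G φ → 𝐖 ≤ charKer φ → charDegree φ ≠ u * v := fun φ hφ hk e => by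
    rcases h.cdX hφ hk (e ▸ fun e => u1 (Nat.eq_one_of_mul_eq_one_right e)) with e' | e'
    exacts [v1 ((Nat.mul_eq_left u0.ne').1 (e.symm.trans e')),
      u1 ((Nat.mul_eq_right v0.ne').1 (e.symm.trans e'))]
  rcases hsec with ⟨s, k, hs, hk⟩ | ⟨E, _, hE⟩
  · obtain ⟨β, hβ, kβ, β1⟩ := exists_nonlinear_le_charKer K hK'
    have h6 := hk ▸ charDegree_dvd_index_of_le_charKer hβ kβ
    rcases h.cdX hβ (hWK.trans kβ) β1 with e | e
    · obtain rfl : s = r := by_contra fun e' => not_dvd_pow hr hs e' h6 (e ▸ h2)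
      obtain ⟨φ, hφ, h7, h8⟩ := sec_a hs hk hβ kβ hγ (eγ ▸ h5)
      exact huv φ hφ ((le_inf hWK (inf_le_left.trans kγ)).trans h7) (by rw [h8, e, eγ])
    · obtain rfl : s = p := by_contra fun e' => not_dvd_pow h.hp hs e' h6 (e ▸ hv)
      obtain ⟨φ, hφ, h7, h8⟩ := sec_a hs hk hβ kβ hα (eα ▸ h1)
      exact huv φ hφ ((le_inf hWK (inf_le_left.trans kα)).trans h7) (by rw [h8, e, eα, mul_comm])
  obtain ⟨β, hβ, kβ, β1, h6⟩ := sec_b0 hE
  have hE2 : R ≤ ⁅E, E⁆ := h.le.trans (commutator_mono hE.commutator_le hE.commutator_le)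
  rcases h.cdX hβ (hWK.trans kβ) β1 with e | e
  · obtain ⟨t, ψ, t1, t2, hψ, -, h7⟩ := sec_b hE bot_le hχ bot_le (h4.trans (e ▸ h6))
      fun e => kχ (hE2.trans e)
    rw [← h6, e] at t2 h7
    exact t1.ne' ((Nat.mul_eq_left u0.ne').1 (h7.symm.trans (D ψ hψ
      (h7 ▸ fun e => u1 (Nat.eq_one_of_mul_eq_one_right e)) fun e' =>
        h1 ((h.hp.dvd_mul.1 (h7 ▸ e')).elim id (·.trans t2)))))
  · obtain ⟨t, ψ, t1, -, hψ, kψ, h7⟩ := sec_b hE hWK hξ kξ' (((h.cdX hξ kξ'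
      (deg_ne_one hξ hR kξ)).resolve_left h3.ne).trans (e ▸ h6)) fun e => kξ (hE2.trans e)
    rw [← h6, e] at h7
    rcases h.cdX hψ kψ (h7 ▸ fun e => v1 (Nat.eq_one_of_mul_eq_one_right e)) with e' | e'
    · exact h1 (e' ▸ h7 ▸ hv.mul_right t)
    · exact t1.ne' ((Nat.mul_eq_left v0.ne').1 (h7.symm.trans e'))

theorem syl [Fact p.Prime] (hm : ¬ p ∣ m) (S : Sylow p G) : ⁅(S : Subgroup G), (S : Subgroup G)⁆ ≤ 𝐖 := by
  obtain ⟨f, χ, ξ, h1, -, hχ, kχ, h3, hξ, kξ, kξ', h4⟩ := h.exa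
  have hR := h.le.trans (der_le 1)
  refine commutator_le.2 (commutator_sylow_le (GT.isPSolvable_of_isSolvable inferInstance) pW
    (isIrrCharacter_monoidHom_units f) (by simp) (fun φ hφ h5 e => ?_) S)
  have h6 := Nat.le_of_dvd hφ.charDegree_pos
    (index_inertia_dvd hφ (isIrrCharacter_monoidHom_units f) h5)
  obtain ⟨α, hα, kα, -, eα⟩ := h.exu
  obtain ⟨γ, hγ, kγ, -, eγ⟩ := h.symm.exu
  have := h.lt α hα (inf_le_left.trans kα)
  have := h.lt γ hγ (inf_le_left.trans kγ)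
  have := h.cd φ hφ (h.ne_one e)
  have := h.cd χ hχ (deg_ne_one hχ hR kχ)
  have := h.cdX hξ kξ' (deg_ne_one hξ hR kξ)
  rw [← h3] at h6
  exact (show charDegree φ = m ∨ charDegree φ = charDegree χ by omega).elim (fun e' => hm (e' ▸ e))
    fun e' => h1 (e' ▸ e)

theorem case_both (hu : p ∣ u) (hv : p ∣ v) (hm : ¬ p ∣ m) (huv : u ≤ v) : False := by
  have := Fact.mk h.hp
  obtain ⟨S⟩ : Nonempty (Sylow p G) := inferInstance
  obtain ⟨L, _, h1, h2, k, h3⟩ := thom 𝐖 h.hp fun φ hφ hk h5 =>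
    (h.cdX hφ hk h5).elim (· ▸ hu) (· ▸ hv)
  have h4 : L ⊔ S = ⊤ := index_eq_one.1 (Nat.eq_one_of_dvd_coprimes
    ((h.hp.coprime_iff_not_dvd.2 S.not_dvd_index).pow_left k) (h3 ▸ index_dvd_of_le le_sup_left)
    (index_dvd_of_le le_sup_right))
  have h5 : commutator G ≤ L := by
    rw [commutator_def, GT.commutator_le_iff_map_mk', ← h4, Subgroup.map_sup,
      QuotientGroup.map_mk'_self, bot_sup_eq, ← GT.commutator_le_iff_map_mk']
    exact (h.syl hm S).trans h1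
  obtain ⟨θ, hθ, h6⟩ := h.exθ
  obtain ⟨γ, hγ, kγ, -, eγ⟩ := h.symm.exu
  obtain ⟨β', hβ', h7⟩ := exists_irr_under (inertia 𝐖 θ) hγ
  obtain ⟨β, hβ, h8⟩ := exists_irr_under (L.subgroupOf (inertia 𝐖 θ)) hβ'
  have k1 := ker_under hγ hβ' h7 (inf_le_left.trans kγ : 𝐖 ≤ _)
  have h9 := deg_eq_of_comm (commutator_le_subgroupOf ((commutator_mono le_top le_top).trans h5))
    (((h2.symm.pow_left k).coprime_dvd_left (h3 ▸ relIndex_dvd_index_of_normal _ _)).coprime_dvd_right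
      (GT.relIndex_comap_dvd_of_normal _)) hβ' k1 hβ h8
  obtain ⟨i, hi⟩ := IsPGroup.iff_card.1 (pW (p := p) (R := R))
  obtain ⟨χ, hχ, h10, h11⟩ := canon' h1 (hi ▸ h2.symm.pow_left i) hθ hβ
    fun x hx => ker_under hβ' hβ h8 k1 hx
  rw [← mul_assoc (index _) (charDegree β), ← h9, ← mul_assoc] at h11
  have h12 := h6.trans (charDegree_dvd_of_under hχ hθ h10)
  have h13 := (Nat.mul_le_mul (Nd.deg_le_of_under hγ hβ' h7) (h.hp.two_le.trans
    (Nat.le_of_dvd hθ.charDegree_pos h6))).trans (Nat.le_of_dvd hχ.charDegree_pos h11)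
  have := hγ.charDegree_pos
  rcases h.cd χ hχ (h.ne_one h12) with e | e | e
  exacts [by omega, by omega, hm (e ▸ h12)]

theorem case_one (hu : ¬ p ∣ u) (hv : p ∣ v) (hm : ¬ p ∣ m) : False := by
  have := Fact.mk h.hp
  obtain ⟨S⟩ : Nonempty (Sylow p G) := inferInstance
  have hs := QuotientGroup.mk'_surjective 𝐖
  set π := QuotientGroup.mk' 𝐖
  obtain ⟨P, hP⟩ : ∃ P : Sylow p (G ⧸ 𝐖), ∀ a ∈ (P : Subgroup (G ⧸ 𝐖)), ∀ b ∈ (P : Subgroup _),
      a * b = b * a := ⟨S.mapSurjective hs, fun a ha b hb =>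
    (commutator_eq_bot_iff_le_centralizer.1 (GT.commutator_le_iff_map_mk'.1 (h.syl hm S)) hb a ha)⟩
  have h0 : S0 (pPrimeCore p (G ⧸ 𝐖)) P p := ⟨h.hp, P.isPGroup',
    h.hp.coprime_iff_not_dvd.1 (GT.coprime_card_pPrimeCore p).symm,
    sup_comm (P : Subgroup (G ⧸ 𝐖)) _ ▸ S0018.result p P ⟨⟨fun a b => Subtype.ext (hP a a.2 b b.2)⟩⟩,
    hP⟩
  set X := WW (pPrimeCore p (G ⧸ 𝐖)) P
  have D : ∀ φ, IsIrrCharacter G φ → p ∣ charDegree φ → charDegree φ = v := fun φ hφ e => by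
    rcases h.cd φ hφ (h.ne_one e) with e' | e' | e'
    exacts [absurd (e' ▸ e) hu, e', absurd (e' ▸ e) hm]
  have h1 : ∀ f : X →* ℂˣ, f ≠ 1 → (St f).index = v := fun f hf => by
    obtain ⟨χ, h1, h2, h3⟩ := (h0.ex f).deg_one
    exact h3 ▸ D _ h1.comp_mk (h0.dvd_deg hf h1 h2)
  obtain ⟨θ, hθ, h2⟩ := h.exθ
  have h3 : ∀ χ, IsIrrCharacter G χ → Ov χ θ → charDegree χ = v := fun χ hχ e =>
    D χ hχ (h2.trans (charDegree_dvd_of_under hχ hθ e))
  obtain ⟨γ, hγ, kγ, -, eγ⟩ := h.symm.exu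
  have v0 := eγ ▸ hγ.charDegree_pos
  by_cases H : X.comap π ⊓ inertia 𝐖 θ ≤ ⁅X, X⁆.comap π
  · have hX : X ≠ ⊥ := fun e => by
      obtain ⟨φ, hφ, rfl⟩ := hγ.exists_quotient 𝐖 fun n hn => apply_eq_of_mem_charKer (kγ hn.1)
      have h4 := h0.V_le
      rw [show WW _ _ = ⊥ from e, bot_sup_eq] at h4
      refine P.not_dvd_index ((eγ ▸ hv :).trans ((hφ.charDegree_dvd_index_of_commutator _
        fun a ha b hb => ?_).trans (index_dvd_of_le le_normalClosure)))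
      rw [hP a (h4 ha) b (h4 hb), mul_inv_cancel_right, mul_inv_cancel]
    obtain ⟨x, hx, hx'⟩ := SetLike.exists_of_lt (GT.commutator_lt_of_isSolvable hX)
    obtain ⟨f, -, hf⟩ := exists_lin (x := ⟨x, hx⟩) le_rfl hx'
    have hf1 : f ≠ 1 := fun e => hf (e ▸ rfl)
    obtain ⟨χ, hχ, h4⟩ := exists_irr_over _ hθ
    have h5 := relIndex_dvd_of_le_left (X.comap π) H
    rw [relIndex_comap, map_comap_eq_self_of_surjective hs, inf_relIndex_left] at h5
    exact (h1 f hf1 ▸ index_St_lt hf1).not_ge (Nat.le_of_dvd v0 (h5.trans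
      ((Pal.relIndex_dvd_index_left _ _).trans (h3 χ hχ h4 ▸ index_inertia_dvd hχ hθ h4))))
  obtain ⟨x, hx, hx'⟩ := SetLike.not_le_iff_exists.1 H
  obtain ⟨f, -, hf⟩ := exists_lin (x := ⟨π x, hx.1⟩) le_rfl hx'
  have hf1 : f ≠ 1 := fun e => hf (e ▸ rfl)
  let b : (X.comap π).subgroupOf (inertia 𝐖 θ) →* ℂˣ :=
    f.comp (((π.comp (inertia 𝐖 θ).subtype).comp (Subgroup.subtype _)).codRestrict X fun y => y.2)
  obtain ⟨i, hi⟩ := IsPGroup.iff_card.1 (pW (p := p) (R := R))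
  obtain ⟨χ, hχ, h4, h5⟩ := canon' (L := X.comap π) (QuotientGroup.le_comap_mk' _ _) (by
      rw [hi, ← GT.card_map_mk'_eq_relIndex, map_comap_eq_self_of_surjective hs]
      exact ((GT.coprime_card_pPrimeCore p).symm.coprime_dvd_right
        (card_dvd_of_le inf_le_left)).pow_left i) hθ (isIrrCharacter_monoidHom_units b)
    fun y hy => by
      rw [charKer_monoidHom_units]
      exact (congrArg f (Subtype.ext ((QuotientGroup.eq_one_iff _).2 hy))).trans f.map_one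
  rw [h3 χ hχ h4, charDegree_linear, one_mul, ← mul_assoc, mul_comm (index _),
    ← index_map_subtype] at h5
  have h6 : (VV (P : Subgroup (G ⧸ 𝐖))).comap π ⊓ (St b).map (inertia 𝐖 θ).subtype ≤
      (St f).comap π := by
    rintro _ ⟨ht, t, ht', rfl⟩
    by_contra h6
    refine hf (eq_one_of_fpf (t := π t) (fun y => ∃ z : (X.comap π).subgroupOf (inertia 𝐖 θ),
      π (z : inertia 𝐖 θ) = y) ?_ (fun μ hμ => by_contra fun e =>
        h6 (h0.fix P.not_dvd_index h1 e f ⟨ht, hμ⟩)) ?_ ⟨⟨⟨x, hx.2⟩, hx.1⟩, rfl⟩)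
    · rintro y ⟨z, hz⟩
      exact ⟨⟨t * z * t⁻¹, Normal.conj_mem inferInstance _ z.2 t⟩, by simp [← hz]⟩
    · rintro ⟨y, hy⟩ ⟨z, rfl⟩
      exact St_apply ht' z
  have h7 := relIndex_dvd_of_le_left ((VV (P : Subgroup (G ⧸ 𝐖))).comap π) h6
  rw [relIndex_comap, map_comap_eq_self_of_surjective hs, inf_relIndex_left,
    h0.rel_eq P.not_dvd_index f, h1 f hf1] at h7
  exact Nat.pow_succ_factorization_not_dvd v0.ne' h.hp
    ((mul_dvd_mul (h7.trans (Pal.relIndex_dvd_index_left _ _)) h2).trans h5)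

theorem elim : False := by
  wlog hv : p ∣ v generalizing u v
  · exact this h.symm (h.pd.resolve_right hv)
  by_cases hm : p ∣ m
  · exact h.case_ii hv hm
  by_cases hu : p ∣ u
  · exact (le_total u v).elim (h.case_both hu hv hm) (h.symm.case_both hv hu hm)
  · exact h.case_one hu hv hm

end H2

theorem caseII [Group.IsSolvable G] {p x y z : ℕ} (hp : p.Prime) (hO : pPrimeCore p G = ⊥)
    (hcd : ∀ χ, IsIrrCharacter G χ → charDegree χ ≠ 1 →
      charDegree χ = x ∨ charDegree χ = y ∨ charDegree χ = z)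
    (h2 : ¬ derivedSeries G 2 ≤ pCore p G) : derivedSeries G 4 = ⊥ := by
  by_contra h4
  have := Fact.mk hp
  have := Normal.map (derivedSeries_normal G 2) _ (QuotientGroup.mk'_surjective (pCore p G))
  obtain ⟨R, r, h0, hR, h1, hrp, -⟩ := exists_S0 hp (A := (derivedSeries G 2).map _)
    (by rwa [Ne, Subgroup.map_eq_bot_iff, QuotientGroup.ker_mk']) le_rfl
  obtain ⟨χ, hχ, h3⟩ := Set.exists_max_image {χ : IrrCharacter G | WW (pCore p G) R ≤ charKer χ.1}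
    (fun χ => charDegree χ.1) (Set.toFinite _) ⟨⟨_, IsIrrCharacter.one⟩, fun _ _ _ => rfl⟩
  obtain ⟨ψ, hψ, h5⟩ := h0.big (GT.isPGroup_pCore p).isNilpotent (GT.centralizer_pCore_le hp hO) hR
    χ.2 hχ
  have h6 : ∀ φ, IsIrrCharacter G φ → WW (pCore p G) R ≤ charKer φ → charDegree φ < charDegree ψ :=
    fun φ hφ hk => (h3 ⟨φ, hφ⟩ hk).trans_lt h5
  have := χ.2.charDegree_pos
  rcases hcd ψ hψ (by omega) with e | e | e <;> rw [e] at h6
  · exact H2.elim ⟨hp, hO, h0, hR, h1, hrp, fun φ hφ h => or_rotate.1 (hcd φ hφ h), h6, h4⟩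
  · exact H2.elim ⟨hp, hO, h0, hR, h1, hrp, fun φ hφ h => or_rotate.2 (hcd φ hφ h), h6, h4⟩
  · exact H2.elim ⟨hp, hO, h0, hR, h1, hrp, hcd, h6, h4⟩

universe u in
/-- Garrison's theorem. -/
theorem garrison (G : Type u) [Group G] [Finite G] : Group.IsSolvable G → ∀ x y z : ℕ,
    (∀ χ, IsIrrCharacter G χ → charDegree χ ≠ 1 →
      charDegree χ = x ∨ charDegree χ = y ∨ charDegree χ = z) → derivedSeries G 4 = ⊥ := by
  refine GT.subgroup_quotient_induction (P := fun G _ _ => Group.IsSolvable G → ∀ x y z : ℕ,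
    (∀ χ, IsIrrCharacter G χ → charDegree χ ≠ 1 →
      charDegree χ = x ∨ charDegree χ = y ∨ charDegree χ = z) → derivedSeries G 4 = ⊥)
    (fun G _ _ _ ih _ x y z hcd => ?_) G
  have h1 : ∀ (N : Subgroup G) [N.Normal], N ≠ ⊥ → derivedSeries G 4 ≤ N := fun N _ hN => by
    have := ih N hN inferInstance x y z fun χ hχ => hcd _ hχ.comp_mk
    rwa [← map_derivedSeries_eq (QuotientGroup.mk'_surjective N), Subgroup.map_eq_bot_iff,
      QuotientGroup.ker_mk'] at this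
  rcases subsingleton_or_nontrivial G with _ | _
  · exact Subsingleton.elim _ _
  obtain ⟨p, hp, h2⟩ := GT.exists_pCore_ne_bot G
  by_cases hO : pPrimeCore p G = ⊥
  · by_cases h3 : derivedSeries G 2 ≤ pCore p G
    exacts [caseI hp hO hcd h3, caseII hp hO hcd h3]
  · exact le_bot_iff.1 ((le_inf (h1 _ h2) (h1 _ hO)).trans
      (GT.pCore_inf_eq_bot (GT.coprime_card_pPrimeCore p)).le)

end Cfsg.Agent.Gar
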